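/-
The Borel subgroup of a central quotient of `SU₃(5)` in the split basis: the Sylow 5-subgroup has the
trivial intersection property, and its normaliser has order dividing 1000.
-/
import Cfsg.Agent.Lib.Fusion.PSUCharPSimple

set_option autoImplicit false
set_option linter.unusedSectionVars false

namespace CfsgLib.U35

open Matrix CfsgLib.PSUBorel

variable {F : Type*} [Field F] [Fintype F] [CharP F 5] (c : Conj F)

local instance fact5 : Fact (Nat.Prime 5) := ⟨by norm_num⟩

/-- The levels of the Borel subgroup. -/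
abbrev lev : Fin 3 → ℕ := fun i => (i : ℕ)

theorem mem_Par_iff {g : SUs c 3} : g ∈ Par c lev ↔ ∀ i j : Fin 3, j < i → g.1.1 i j = 0 :=
  ⟨fun h i j hij => h i j hij, fun h i j hij => h i j hij⟩

/-- The unitary relations inside `UU`. -/
theorem UU_rel {u : SUs c 3} (hu : u ∈ UU c 3) :
    c.σ (u.1.1 1 2) + u.1.1 0 1 = 0 := by
  have h := cond_apply c u.2 0 1
  simpa [Fin.sum_univ_three, Fin.rev, UU_diag c hu, UU_below c hu (show (0 : Fin 3) < 1 by decide)] using h

/-- An element of the Borel subgroup with corner entry one is unipotent. -/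
theorem mem_UU_of_corner {g : SUs c 3} (hg : g ∈ Par c lev) (h : g.1.1 0 0 = 1) : g ∈ UU c 3 := by
  have h10 := (mem_Par_iff c).mp hg 1 0 (by decide)
  have h20 := (mem_Par_iff c).mp hg 2 0 (by decide)
  have h21 := (mem_Par_iff c).mp hg 2 1 (by decide)
  have h2 : g.1.1 2 2 = 1 := by
    have e := cond_apply c g.2 0 2
    simp [Fin.sum_univ_three, Fin.rev, h, h20, h21] at e
    have := congrArg c.σ e
    rwa [c.invol, map_one] at this
  have hd := g.1.2
  rw [Matrix.det_fin_three, h10, h20, h21, h, h2] at hd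
  simp at hd
  exact mem_UU_of_diag c hg fun i => by fin_cases i <;> assumption

/-- The fixed isotropic line of a nontrivial element of `UU` is the first coordinate axis. -/
theorem mem_Par_of_conj {u g : SUs c 3} (hu : u ∈ UU c 3) (hu1 : u ≠ 1) (h : g⁻¹ * u * g ∈ UU c 3) :
    g ∈ Par c lev := by
  obtain ⟨u', hu', hcm⟩ : ∃ u' ∈ UU c 3, u * g = g * u' := ⟨_, h, by group⟩
  -- the first column of `g` is fixed by `u`
  have e : ∀ i : Fin 3, (u * g).1.1 i 0 = (g * u').1.1 i 0 := fun i => by rw [hcm]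
  have u10 := UU_below c hu (show (0 : Fin 3) < 1 by decide)
  have u20 := UU_below c hu (show (0 : Fin 3) < 2 by decide)
  have u21 := UU_below c hu (show (1 : Fin 3) < 2 by decide)
  have v10 := UU_below c hu' (show (0 : Fin 3) < 1 by decide)
  have v20 := UU_below c hu' (show (0 : Fin 3) < 2 by decide)
  have e0 := e 0
  have e1 := e 1
  simp [coe_mul, Matrix.mul_apply, Fin.sum_univ_three, UU_diag c hu, UU_diag c hu', u10, v10, v20] at e0 e1
  have hrel := UU_rel c hu
  -- isotropy of the first column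
  have hiso : ∑ l, c.σ (g.1.1 l.rev 0) * g.1.1 l 0 = 0 := by
    have hc1 : (g.1.1)ᵀ * aJ F 3 * g.1.1.map c.σ = aJ F 3 := by
      have h1 : g.1.1 * (aJ F 3 * (g.1.1.map c.σ)ᵀ * aJ F 3) = 1 := by
        rw [← Matrix.mul_assoc, ← Matrix.mul_assoc, show g.1.1 * aJ F 3 * (g.1.1.map c.σ)ᵀ = aJ F 3 from g.2,
          aJ_sq]
      have h2 := mul_eq_one_comm.mp h1
      have h4 := congrArg (fun M => aJ F 3 * M) h2
      simp only [← Matrix.mul_assoc, aJ_sq, Matrix.one_mul, Matrix.mul_one] at h4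
      have h3 := congrArg Matrix.transpose h4
      simpa only [Matrix.transpose_mul, Matrix.transpose_transpose, aJ_transpose, Matrix.mul_assoc] using h3
    have e2 := congrFun (congrFun hc1 0) 0
    rw [Matrix.mul_apply] at e2
    simp [Fin.sum_univ_three, aJ, Matrix.mul_apply, Fin.rev] at e2 ⊢
    linear_combination e2
  simp [Fin.sum_univ_three, Fin.rev] at hiso
  -- the fixed space
  have hz : g.1.1 2 0 = 0 := by
    by_contra hz
    have h12 : u.1.1 1 2 = 0 := e1.resolve_right hz
    have h01 : u.1.1 0 1 = 0 := by rw [h12, map_zero, zero_add] at hrel; exact hrel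
    rw [h01] at e0
    have h02 : u.1.1 0 2 = 0 := (mul_eq_zero.mp (by linear_combination e0 :
      u.1.1 0 2 * g.1.1 2 0 = 0)).resolve_right hz
    refine hu1 (SUs_ext c (Matrix.ext fun i j => ?_))
    rw [coe_one]
    fin_cases i <;> fin_cases j <;>
      simp [UU_diag c hu, u10, u20, u21, h01, h02, h12]
  rw [hz] at hiso
  simp at hiso
  have h1 : g.1.1 1 0 = 0 := by tauto
  -- the rest is forced by the form
  have h21 : g.1.1 2 1 = 0 := by
    have e22 := cond_apply c g.2 2 2
    simpa [Fin.sum_univ_three, Fin.rev, hz] using e22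
  refine (mem_Par_iff c).mpr fun i j hij => ?_
  fin_cases i <;> fin_cases j <;> simp at hij <;> assumption

/-- The corner entry. -/
def corner : Par c lev →* Fˣ where
  toFun g := Units.mk (g.1.1.1 0 0) ((g⁻¹ : Par c lev).1.1.1 0 0)
    (by rw [← diag_mul c g.2 (g⁻¹).2, ← Subgroup.coe_mul, mul_inv_cancel]; rfl)
    (by rw [← diag_mul c (g⁻¹).2 g.2, ← Subgroup.coe_mul, inv_mul_cancel]; rfl)
  map_one' := Units.ext rfl
  map_mul' g h := Units.ext (diag_mul c g.2 h.2 0)

theorem corner_ker : (corner c).ker = (UU c 3).subgroupOf (Par c lev) := by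
  ext g
  rw [MonoidHom.mem_ker, Subgroup.mem_subgroupOf, Units.ext_iff]
  exact ⟨fun h => mem_UU_of_corner c g.2 h, fun h => UU_diag c h 0⟩

variable {G : Type*} [Group G] [Finite G] (φ : SUs c 3 →* G)

/-- The image of the unipotent radical. -/
abbrev PP : Subgroup G := (UU c 3).map φ

/-- The image of the Borel subgroup. -/
abbrev BB : Subgroup G := (Par c lev).map φ

variable (hc : Cover c 5 φ)
include hc

theorem ker_inf_UU {u : SUs c 3} (hu : u ∈ UU c 3) (h : φ u = 1) : u = 1 := by
  obtain ⟨j, hj⟩ := isPGroup_UU c 5 ⟨u, hu⟩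
  exact pow_m_pow_eq_one c 5 hc h (congrArg Subtype.val hj)

/-- Trivial intersection. -/
theorem ti {x y : G} (hx : x ∈ PP c φ) (hx1 : x ≠ 1) (h : y⁻¹ * x * y ∈ PP c φ) : y ∈ BB c φ := by
  obtain ⟨u, hu, rfl⟩ := hx
  obtain ⟨g, rfl⟩ := hc.surj y
  refine ⟨g, mem_Par_of_conj c hu (fun e => hx1 (by rw [e, map_one])) ?_, rfl⟩
  obtain ⟨N, hN⟩ := isPGroup_UU c 5 ⟨u, hu⟩
  refine mem_UU_of_map c 5 hc (N := N) ?_ (by rw [map_mul, map_mul, map_inv]; exact h)
  have hN' : u ^ 5 ^ N = 1 := congrArg Subtype.val hN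
  rw [show g⁻¹ * u * g = g⁻¹ * u * g⁻¹⁻¹ by rw [inv_inv], conj_pow, hN', mul_one, mul_inv_cancel]

theorem PP_le_BB : PP c φ ≤ BB c φ := Subgroup.map_mono (UU_le_Par c fun _ _ h => h)

theorem conj_mem {x y : G} (hy : y ∈ BB c φ) (hx : x ∈ PP c φ) : y * x * y⁻¹ ∈ PP c φ := by
  obtain ⟨g, hg, rfl⟩ := hy
  obtain ⟨u, hu, rfl⟩ := hx
  exact ⟨_, Rad_conj c hg hu, by simp⟩

theorem isPGroup_PP : IsPGroup 5 (PP c φ) := (isPGroup_UU c 5).map φ

/-- The image of the unipotent radical has order 125. -/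
theorem card_PP (hG : Nat.card G = 126000) : Nat.card (PP c φ) = 125 := by
  obtain ⟨U, hU⟩ := exists_sylow c 5 hc
  show Nat.card ((UU c 3).map φ : Subgroup G) = 125
  rw [← hU, U.card_eq_multiplicity, hG, show (126000 : ℕ).factorization 5 = 3 from ?_]
  · norm_num
  · rw [show (126000 : ℕ) = 5 ^ 3 * 1008 by norm_num, Nat.factorization_mul (by norm_num) (by norm_num),
      Finsupp.add_apply, Nat.Prime.factorization_pow (by norm_num), Finsupp.single_eq_same,
      Nat.factorization_eq_zero_of_not_dvd (by norm_num), add_zero]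

/-- The image of the Borel subgroup has order dividing 1000. -/
theorem card_BB (hG : Nat.card G = 126000) (h25 : Fintype.card F = 25) (hker : Nat.card φ.ker = 3) :
    Nat.card (BB c φ) ∣ 1000 := by
  classical
  -- the kernel is inside the Borel subgroup
  have hle : φ.ker ≤ Par c lev := by
    intro z hz
    obtain ⟨b, hb0, hb⟩ := c.exists_antifixed
    refine mem_Par_of_conj c (L2_mem_UU c (show (0 : Fin 3) < (0 : Fin 3).rev by decide) b hb) (fun e => hb0 ?_) ?_
    · have := congrArg (fun A : SUs c 3 => A.1.1 0 2) e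
      rw [L2_val, coe_one] at this
      simpa [Matrix.single_apply, Fin.rev] using this
    · rw [mul_assoc, Subgroup.mem_center_iff.mp (hc.central hz), ← mul_assoc, inv_mul_cancel, one_mul]
      exact L2_mem_UU c (by decide) b hb
  have hU : Nat.card (UU c 3) = 125 := by
    rw [← card_PP c φ hc hG]
    refine Nat.card_eq_of_bijective (fun u => (⟨φ u.1, ⟨u.1, u.2, rfl⟩⟩ : PP c φ)) ⟨fun a b e => ?_, ?_⟩
    · have e' : φ a.1 = φ b.1 := congrArg Subtype.val e
      refine Subtype.ext (inv_mul_eq_one.mp (ker_inf_UU c φ hc (mul_mem (inv_mem a.2) b.2) ?_))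
      rw [map_mul, map_inv, e', inv_mul_cancel]
    · rintro ⟨_, u, hu, rfl⟩
      exact ⟨⟨u, hu⟩, rfl⟩
  have hPar : Nat.card (Par c lev) ∣ 3000 := by
    rw [← Subgroup.card_mul_index (corner c).ker, corner_ker,
      Nat.card_congr (Subgroup.subgroupOfEquivOfLe (UU_le_Par c fun _ _ h => h)).toEquiv, hU, ← corner_ker,
      Subgroup.index_ker]
    show 125 * Nat.card (corner c).range ∣ 125 * 24
    refine Nat.mul_dvd_mul (dvd_refl _) ?_
    have := Subgroup.card_subgroup_dvd_card (corner c).range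
    rwa [Nat.card_units, Nat.card_eq_fintype_card (α := F), h25] at this
  let f := φ.subgroupMap (Par c lev)
  have hs : Function.Surjective f := φ.subgroupMap_surjective _
  have hk : Nat.card f.ker = 3 := by
    refine Eq.trans ?_ hker
    refine Nat.card_eq_of_bijective (fun z => (⟨z.1.1, congrArg Subtype.val z.2⟩ : φ.ker))
      ⟨fun a b e => Subtype.ext (Subtype.ext (congrArg (fun x : φ.ker => (x : SUs c 3)) e)), fun z => ?_⟩
    exact ⟨⟨⟨z.1, hle z.2⟩, Subtype.ext z.2⟩, rfl⟩
  have := Subgroup.card_mul_index f.ker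
  rw [Subgroup.index_ker, f.range_eq_top_of_surjective hs, Subgroup.card_top, hk] at this
  rw [← this] at hPar
  exact Nat.dvd_of_mul_dvd_mul_left (by norm_num) (show 3 * Nat.card (BB c φ) ∣ 3 * 1000 from hPar)

/-- A noncentral element of the unipotent radical has a small normaliser in the Borel subgroup. -/
theorem torus {u g : SUs c 3} (hσ : ∀ x : F, c.σ x = x ^ 5) (hu : u ∈ UU c 3) (ha : u.1.1 0 1 ≠ 0) (hg : g ∈ Par c lev)
    {k : ℕ} (h : g * u = u ^ k * g) : (g.1.1 0 0) ^ 12 = 1 := by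
  have hk : ∀ k : ℕ, (u ^ k).1.1 0 1 = (k : F) * u.1.1 0 1 := by
    intro k
    induction k with
    | zero => simp [coe_one]
    | succ k ih =>
      rw [pow_succ, coe_mul, Matrix.mul_apply, Fin.sum_univ_three, UU_diag c (pow_mem hu k), ih, UU_diag c hu,
        UU_below c hu (show (1 : Fin 3) < 2 by decide)]
      push_cast; ring
  have e := congrArg (fun A : SUs c 3 => A.1.1 0 1) h
  simp only [coe_mul, Matrix.mul_apply, Fin.sum_univ_three, hk, UU_diag c (pow_mem hu k), UU_diag c hu,
    UU_below c hu (show (1 : Fin 3) < 2 by decide), (mem_Par_iff c).mp hg 1 0 (by decide),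
    (mem_Par_iff c).mp hg 2 1 (by decide)] at e
  have e' : g.1.1 0 0 = (k : F) * g.1.1 1 1 := mul_right_cancel₀ ha (by linear_combination e)
  have hd := g.1.2
  rw [Matrix.det_fin_three, (mem_Par_iff c).mp hg 1 0 (by decide), (mem_Par_iff c).mp hg 2 0 (by decide),
    (mem_Par_iff c).mp hg 2 1 (by decide)] at hd
  have h22 : g.1.1 0 0 * c.σ (g.1.1 2 2) = 1 := by
    have := cond_apply c g.2 0 2
    simpa [Fin.sum_univ_three, Fin.rev, (mem_Par_iff c).mp hg 2 0 (by decide),
      (mem_Par_iff c).mp hg 2 1 (by decide)] using this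
  have h22' : c.σ (g.1.1 0 0) * g.1.1 2 2 = 1 := by
    have := congrArg c.σ h22
    rwa [map_mul, c.invol, map_one] at this
  set t := g.1.1 0 0 with ht
  have ht0 : t ≠ 0 := left_ne_zero_of_mul_eq_one h22
  have h11 : t * g.1.1 1 1 = t ^ 5 := by
    have := hσ t ▸ h22'
    linear_combination (t ^ 5) * hd - t * g.1.1 1 1 * this
  have h3 : (k : F) * t ^ 3 = 1 := mul_left_cancel₀ (pow_ne_zero 2 ht0)
    (by linear_combination (-(k : F)) * h11 - t * e')
  have hk0 : (k : F) ≠ 0 := left_ne_zero_of_mul_eq_one h3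
  have hk5 : (k : F) ^ 5 = k := by
    have := map_natCast (frobenius F 5) k
    rwa [frobenius_def] at this
  have hk4 : (k : F) ^ 4 = 1 := mul_left_cancel₀ hk0 (by linear_combination hk5)
  calc t ^ 12 = (k : F) ^ 4 * (t ^ 3) ^ 4 := by rw [hk4, one_mul]; ring
    _ = ((k : F) * t ^ 3) ^ 4 := by ring
    _ = 1 := by rw [h3, one_pow]

omit hc

end CfsgLib.U35
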