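/-
Arithmetic on codes for the field with twenty-five elements, and the boolean checks of the certificate for an
orbit of fifty sets of lines under `SU₃(5)`.
-/
import Mathlib
import Cfsg.Agent.Lib.U35.Data

set_option autoImplicit false
set_option maxRecDepth 100000
set_option Elab.async false

namespace CfsgLib.U35

/-! A code `x < 25` stands for `x / 5 + (x % 5) r` with `r² = 2`. -/

/-- Sum of two codes. -/
def cadd (x y : ℕ) : ℕ := 5 * ((x / 5 + y / 5) % 5) + (x % 5 + y % 5) % 5

/-- Product of two codes. -/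
def cmul (x y : ℕ) : ℕ :=
  5 * ((x / 5 * (y / 5) + 2 * (x % 5 * (y % 5))) % 5) + (x / 5 * (y % 5) + x % 5 * (y / 5)) % 5

/-- The fifth power of a code. -/
def cconj (x : ℕ) : ℕ := 5 * (x / 5 % 5) + (4 * (x % 5)) % 5

/-- Entry of a coded matrix. -/
def ent (A : List ℕ) (i j : ℕ) : ℕ := A.getD (3 * i + j) 0

/-- Entry of a product of coded matrices. -/
def mdot (A B : List ℕ) (i j : ℕ) : ℕ :=
  cadd (cadd (cmul (ent A i 0) (ent B 0 j)) (cmul (ent A i 1) (ent B 1 j))) (cmul (ent A i 2) (ent B 2 j))

/-- Product of coded matrices. -/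
def mmul (A B : List ℕ) : List ℕ :=
  [mdot A B 0 0, mdot A B 0 1, mdot A B 0 2, mdot A B 1 0, mdot A B 1 1, mdot A B 1 2,
    mdot A B 2 0, mdot A B 2 1, mdot A B 2 2]

/-- The identity. -/
def mone : List ℕ := [5, 0, 0, 0, 5, 0, 0, 0, 5]

/-- Powers. -/
def mpow (A : List ℕ) : ℕ → List ℕ
  | 0 => mone
  | n + 1 => mmul (mpow A n) A

/-- A scalar matrix. -/
def msmul (z : ℕ) : List ℕ := [z, 0, 0, 0, z, 0, 0, 0, z]

/-- The antidiagonal form. -/
def mJ : List ℕ := [0, 0, 5, 0, 5, 0, 5, 0, 0]

/-- Conjugate transpose. -/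
def mstar (A : List ℕ) : List ℕ :=
  [cconj (ent A 0 0), cconj (ent A 1 0), cconj (ent A 2 0), cconj (ent A 0 1), cconj (ent A 1 1), cconj (ent A 2 1),
    cconj (ent A 0 2), cconj (ent A 1 2), cconj (ent A 2 2)]

/-- Negation. -/
def cneg (x : ℕ) : ℕ := cmul 20 x

/-- The determinant. -/
def mdet (A : List ℕ) : ℕ :=
  cadd
    (cadd
      (cadd (cmul (cmul (ent A 0 0) (ent A 1 1)) (ent A 2 2)) (cneg (cmul (cmul (ent A 0 0) (ent A 1 2)) (ent A 2 1))))
      (cadd (cneg (cmul (cmul (ent A 0 1) (ent A 1 0)) (ent A 2 2))) (cmul (cmul (ent A 0 1) (ent A 1 2)) (ent A 2 0))))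
    (cadd (cmul (cmul (ent A 0 2) (ent A 1 0)) (ent A 2 1)) (cneg (cmul (cmul (ent A 0 2) (ent A 1 1)) (ent A 2 0))))

/-- Membership in the special unitary group of the antidiagonal form. -/
def unitaryB (A : List ℕ) : Bool := decide (mmul (mmul A mJ) (mstar A) = mJ) && decide (mdet A = 5)

/-- Coordinate of a line. -/
def coord (p i : ℕ) : ℕ := if i = 0 then p / 625 else if i = 1 then p / 25 % 25 else p % 25

/-- Coordinate of the image of a line. -/
def app (A : List ℕ) (p i : ℕ) : ℕ :=
  cadd (cadd (cmul (ent A i 0) (coord p 0)) (cmul (ent A i 1) (coord p 1))) (cmul (ent A i 2) (coord p 2))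

/-- The line with the given index. -/
def pt (i : ℕ) : ℕ := pts.getD i 0

/-- The generators. -/
def gen (k : Fin 3) : List ℕ := ![gu, gt, gs] k

/-- The permutation of lines of a generator. -/
def perm (k : Fin 3) : List ℕ := ![perm0, perm1, perm2] k

/-- The scalars of a generator. -/
def lam (k : Fin 3) : List ℕ := ![lam0, lam1, lam2] k

/-- The permutation of sets of lines of a generator. -/
def act (k : Fin 3) : List ℕ := ![act0, act1, act2] k

/-- A generator moves each line to the tabulated multiple of the tabulated line. -/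
def lineB (k : Fin 3) (i : ℕ) : Bool :=
  (List.range 3).all fun c =>
    decide (app (gen k) (pt i) c = cmul ((lam k).getD i 0) (coord (pt ((perm k).getD i 0)) c)) &&
      decide ((perm k).getD i 0 < 525) && decide ((lam k).getD i 0 ≠ 0) && decide ((lam k).getD i 0 < 25)

/-- The mask with the given index. -/
def mask (j : ℕ) : ℕ := masks.getD j 0

/-- A generator moves each set to the tabulated set. -/
def setB (k : Fin 3) (j : ℕ) : Bool :=
  decide ((act k).getD j 0 < 50) &&
    (List.range 525).all fun i => decide ((mask ((act k).getD j 0)).testBit ((perm k).getD i 0) = (mask j).testBit i)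

/-- A line is normalised. -/
def normB (p : ℕ) : Bool :=
  decide (p / 625 < 25) && (decide (coord p 0 = 5) || (decide (coord p 0 = 0) &&
    (decide (coord p 1 = 5) || (decide (coord p 1 = 0) && decide (coord p 2 = 5)))))

theorem gens_unitary : ∀ k : Fin 3, unitaryB (gen k) = true := by decide +kernel

theorem gv_unitary : unitaryB gv = true := by decide +kernel

theorem lines_ok : ∀ k : Fin 3, (List.range 525).all (lineB k) = true := by decide +kernel

theorem sets_ok : ∀ k : Fin 3, (List.range 50).all (setB k) = true := by decide +kernel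

theorem perm_nodup : ∀ k : Fin 3, (perm k).Nodup ∧ (perm k).length = 525 := by decide +kernel

theorem pts_norm : (List.range 525).all (fun i => normB (pt i)) = true := by decide +kernel

theorem pts_nodup : pts.Nodup ∧ pts.length = 525 := by decide +kernel

theorem masks_lt : (List.range 50).all (fun j => decide (mask j < 2 ^ 525)) = true := by decide +kernel

theorem masks_nodup : masks.Nodup ∧ masks.length = 50 := by decide +kernel

theorem pred_ok : (List.range 49).all (fun j => decide ((pred.getD (j + 1) (0, 0)).1 < 3) &&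
    decide ((pred.getD (j + 1) (0, 0)).2 < j + 1) &&
    decide ((![act0, act1, act2] (Fin.ofNat 3 (pred.getD (j + 1) (0, 0)).1)).getD (pred.getD (j + 1) (0, 0)).2 0 = j + 1))
    = true := by decide +kernel

theorem rel_gv : mmul gt gu = mmul gv gt := by decide +kernel

theorem rel_comm : mmul gu gv ≠ mmul gv gu := by decide +kernel

theorem rel_omega : mmul (msmul omega) (mmul (msmul omega) (msmul omega)) = mone ∧ unitaryB (msmul omega) = true ∧
    omega ≠ 5 ∧ omega ≠ 0 ∧ omega < 25 ∧ cmul omega omega ≠ 5 := by decide +kernel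

theorem rel_orders : mpow gs 7 = mone ∧ mpow gt 24 = mone ∧ mmul gu (mpow gt 4) ≠ mmul (mpow gt 4) gu ∧
    mmul gs gu ≠ mmul gu gs ∧ mmul (mpow gt 8) gu = mmul gu (mpow gt 8) := by decide +kernel

theorem shapes : ∀ i j : Fin 3, (j < i → ent gu i j = 0 ∧ ent gv i j = 0) ∧
    (i = j → ent gu i j = 5 ∧ ent gv i j = 5) := by decide +kernel

end CfsgLib.U35
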