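/-
A simple group of order 126000 with a nonabelian trivial-intersection Sylow 5-subgroup of small normaliser has
no proper subgroup of index less than fifty.
-/
import Mathlib

set_option autoImplicit false
set_option linter.unusedSectionVars false

namespace CfsgLib.U35

open scoped Pointwise

local instance fact5' : Fact (Nat.Prime 5) := ⟨by norm_num⟩

/-- If a Sylow subgroup has trivial intersection with each of its conjugates, then the number of Sylow subgroups
is one modulo its order. -/
theorem sylow_mod_card {H : Type*} [Group H] [Finite H] {p : ℕ} [Fact p.Prime] (U : Sylow p H)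
    (hTI : ∀ x : H, x ∈ (U : Subgroup H) → x ≠ 1 → ∀ h : H, h⁻¹ * x * h ∈ (U : Subgroup H) →
      h ∈ Subgroup.normalizer ((U : Subgroup H) : Set H)) :
    Nat.card (U : Subgroup H) ∣ Nat.card (Sylow p H) - 1 := by
  classical
  let S : SubMulAction (U : Subgroup H) (Sylow p H) :=
    { carrier := {Q | Q ≠ U}
      smul_mem' := fun a Q hQ e => hQ (by
        have e' : a • Q = a • U := e.trans (Sylow.smul_eq_iff_mem_normalizer.mpr
          (Subgroup.le_normalizer a.2)).symm
        exact MulAction.injective a e') }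
  have hfree : ∀ x : S, MulAction.stabilizer (U : Subgroup H) x = ⊥ := by
    rintro ⟨Q, hQ⟩
    rw [eq_bot_iff]
    intro a ha
    rw [MulAction.mem_stabilizer_iff] at ha
    have ha' : (a : H) • Q = Q := congrArg (fun s : S => (s : Sylow p H)) ha
    rw [Subgroup.mem_bot]
    by_contra hne
    have hmem : (a : H) ∈ Subgroup.normalizer ((Q : Subgroup H) : Set H) :=
      Sylow.smul_eq_iff_mem_normalizer.mp ha'
    have haQ : (a : H) ∈ (Q : Subgroup H) := by
      have := (IsPGroup.inf_normalizer_sylow U.2 Q).le ⟨a.2, hmem⟩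
      exact this.2
    obtain ⟨h, rfl⟩ := MulAction.exists_smul_eq H U Q
    have h1 : (h⁻¹ * (a : H) * h) ∈ (U : Subgroup H) := by
      rw [Sylow.coe_subgroup_smul, Subgroup.mem_pointwise_smul_iff_inv_smul_mem] at haQ
      simpa [MulAut.smul_def, ← map_inv] using haQ
    exact hQ (Sylow.smul_eq_iff_mem_normalizer.mpr (hTI _ a.2 (fun e => hne (Subtype.ext e)) h h1))
  have hcardS : Nat.card S = Nat.card (Sylow p H) - 1 := by
    haveI := Fintype.ofFinite (Sylow p H)
    rw [show Nat.card S = Nat.card {Q : Sylow p H // Q ≠ U} from rfl, Nat.card_eq_fintype_card,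
      Nat.card_eq_fintype_card, Fintype.card_subtype_compl, Fintype.card_subtype_eq]
  rw [← hcardS, Nat.card_congr (MulAction.selfEquivOrbitsQuotientProd hfree), Nat.card_prod]
  exact dvd_mul_left _ _

variable {G : Type*} [Group G] [Finite G]

/-- The hypotheses. -/
structure Shape (P B : Subgroup G) : Prop where
  cardG : Nat.card G = 126000
  cardP : Nat.card P = 125
  cardB : Nat.card B ∣ 1000
  le : P ≤ B
  normal : ∀ y ∈ B, ∀ x ∈ P, y * x * y⁻¹ ∈ P
  ti : ∀ x ∈ P, x ≠ 1 → ∀ y : G, y⁻¹ * x * y ∈ P → y ∈ B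
  centre : ∃ z ∈ P, z ≠ 1 ∧ ∀ x ∈ P, x * z = z * x
  nonab : ∃ x ∈ P, ∃ y ∈ P, x * y ≠ y * x
  torus : ∀ U : Subgroup G, U ≤ P → Nat.card U = 5 → (∀ x ∈ U, ∀ y ∈ P, y * x = x * y) ∨
    ∀ N : Subgroup G, N ≤ B → (∀ y ∈ N, ∀ x ∈ U, y * x * y⁻¹ ∈ U) → Nat.card N ≠ 40

variable {P B : Subgroup G}

set_option synthInstance.maxSize 3000 in
/-- The arithmetic behind `bound_aux`. -/
theorem arith : ∀ n : Fin 50, 25 ≤ (n : ℕ) → (n : ℕ) ∣ 126000 → ∀ a : Fin 1001, (a : ℕ) ∣ 1000 →
    ∀ e : Fin 4, 126000 / (n : ℕ) / a * a = 126000 / (n : ℕ) → 5 ^ (e : ℕ) ∣ 126000 / (n : ℕ) →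
      ¬ 5 ^ ((e : ℕ) + 1) ∣ 126000 / (n : ℕ) → 5 ^ (e : ℕ) ∣ (a : ℕ) →
      5 ^ (e : ℕ) ∣ 126000 / (n : ℕ) / a - 1 →
      ((n : ℕ) = 25 ∧ (a : ℕ) = 40 ∧ 5 ^ (e : ℕ) = 5) ∨ ((n : ℕ) = 40 ∧ (a : ℕ) = 25 ∧ 5 ^ (e : ℕ) = 25) := by
  decide +kernel

/-- Central elements of `P` lie in every subgroup of `P` of index at most five. -/
theorem mem_of_large (hs : Shape P B) {W : Subgroup G} (hW : W ≤ P) (hc : 25 ≤ Nat.card W) {z : G} (hz : z ∈ P)
    (hzc : ∀ x ∈ P, x * z = z * x) : z ∈ W := by
  by_contra hzW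
  have hd : Nat.card W ∣ 5 ^ 3 := by
    have := Subgroup.card_dvd_of_le hW
    rw [hs.cardP] at this
    exact this
  obtain ⟨k, hk3, hk⟩ := (Nat.dvd_prime_pow (by norm_num)).mp hd
  have hk2 : k = 2 := by
    have h2 : 2 ≤ k := by
      by_contra h
      have : 5 ^ k ≤ 5 ^ 1 := Nat.pow_le_pow_right (by norm_num) (by omega)
      omega
    by_contra h
    have hk' : k = 3 := by omega
    subst hk'
    exact hzW ((Subgroup.eq_of_le_of_card_ge hW (by rw [hs.cardP, hk]; norm_num)).symm ▸ hz)
  subst hk2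
  haveI : IsMulCommutative W := IsPGroup.isMulCommutative_of_card_eq_prime_sq (p := 5) (by simpa using hk)
  have hWc : ∀ a ∈ W, ∀ b ∈ W, a * b = b * a := fun a ha b hb =>
    congrArg Subtype.val (mul_comm' (⟨a, ha⟩ : W) ⟨b, hb⟩)
  let T := W ⊔ Subgroup.zpowers z
  have hTP : T ≤ P := sup_le hW ((Subgroup.zpowers_le).mpr hz)
  have hlt : W < T := lt_of_le_of_ne le_sup_left fun e =>
    hzW (e ▸ le_sup_right (a := W) (Subgroup.mem_zpowers z))
  have hT : T = P := by
    refine Subgroup.eq_of_le_of_card_ge hTP ?_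
    obtain ⟨j, -, hj⟩ := (Nat.dvd_prime_pow (by norm_num)).mp
      (by have := Subgroup.card_dvd_of_le hTP; rw [hs.cardP] at this; exact this : Nat.card T ∣ 5 ^ 3)
    have hne : Nat.card W ≠ Nat.card T := fun e => hlt.ne (Subgroup.eq_of_le_of_card_ge le_sup_left e.ge)
    have hge : Nat.card W ≤ Nat.card T := Nat.le_of_dvd Nat.card_pos (Subgroup.card_dvd_of_le le_sup_left)
    rw [hs.cardP, hj]
    rw [hk, hj] at hge hne
    have h23 : 2 < j := by
      by_contra hj2
      have : 5 ^ j ≤ 5 ^ 2 := Nat.pow_le_pow_right (by norm_num) (by omega)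
      omega
    calc (125 : ℕ) = 5 ^ 3 := by norm_num
      _ ≤ 5 ^ j := Nat.pow_le_pow_right (by norm_num) (by omega)
  obtain ⟨x, hx, y, hy, hxy⟩ := hs.nonab
  have hgen : T = Subgroup.closure ((W : Set G) ∪ {z}) := by
    rw [Subgroup.closure_union, Subgroup.closure_eq, ← Subgroup.zpowers_eq_closure]
  have hall : T ≤ Subgroup.centralizer ((W : Set G) ∪ {z}) := by
    rw [hgen, Subgroup.closure_le]
    intro a ha b hb
    rcases ha with ha | rfl <;> rcases hb with hb | rfl
    · exact hWc b hb a ha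
    · exact (hzc a (hW ha)).symm
    · exact hzc b (hW hb)
    · rfl
  have hall' : T ≤ Subgroup.centralizer (T : Set G) := by
    rw [Subgroup.le_centralizer_iff]
    conv_lhs => rw [hgen]
    rw [Subgroup.closure_le]
    intro a ha b hb
    exact ((Subgroup.mem_centralizer_iff.mp (hall hb)) a ha).symm
  exact hxy (Subgroup.mem_centralizer_iff.mp (hall' (hT ▸ hy)) x (hT ▸ hx))

/-- A central element of `P` in a subgroup that complements `P` lies in the normal core. -/
theorem core_ne_bot (hs : Shape P B) {H : Subgroup G} {z : G} (hz1 : z ≠ 1) (hzH : z ∈ H) (hzc : ∀ x ∈ P, x * z = z * x)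
    (hmul : ∀ g : G, ∃ x ∈ P, ∃ h ∈ H, g = h * x) : H.normalCore ≠ ⊥ := by
  intro h
  have : z ∈ H.normalCore := fun g => by
    obtain ⟨x, hx, a, ha, rfl⟩ := hmul g
    rw [show a * x * z * (a * x)⁻¹ = a * (x * z * x⁻¹) * a⁻¹ by group, hzc x hx, mul_inv_cancel_right]
    exact H.mul_mem (H.mul_mem ha hzH) (H.inv_mem ha)
  rw [h, Subgroup.mem_bot] at this
  exact hz1 this

/-- Bound for the subgroup whose intersection with `P` is a Sylow subgroup. -/
theorem bound_aux (hs : Shape P B) [IsSimpleGroup G] {H : Subgroup G} (hH : H ≠ ⊤) (h25 : 25 ≤ H.index)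
    (U : Sylow 5 H) (hU : ∀ x : H, x ∈ (U : Subgroup H) → (x : G) ∈ P) : 50 ≤ H.index := by
  classical
  by_contra hlt
  push Not at hlt
  have hcard : Nat.card H * H.index = 126000 := hs.cardG ▸ H.card_mul_index
  have hHpos : Nat.card H = 126000 / H.index := by rw [← hcard, Nat.mul_div_cancel _ (by omega)]
  -- `U` is all of `P ∩ H`
  have hUeq : ∀ x : H, (x : G) ∈ P → x ∈ (U : Subgroup H) := by
    have hp : IsPGroup 5 (P.subgroupOf H) :=
      (IsPGroup.of_card (G := P) (n := 3) (by rw [hs.cardP]; norm_num)).comap_of_injective H.subtype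
        Subtype.coe_injective
    have hle : (U : Subgroup H) ≤ P.subgroupOf H := fun x hx => hU x hx
    have := U.3 hp hle
    intro x hx
    rw [← this]
    exact hx
  -- trivial intersection inside `H`
  have hNB : ∀ h : H, ∀ x : H, x ∈ (U : Subgroup H) → x ≠ 1 → h⁻¹ * x * h ∈ (U : Subgroup H) → (h : G) ∈ B :=
    fun h x hx hx1 hh => hs.ti x (hU x hx) (fun e => hx1 (Subtype.ext e)) h (hU _ hh)
  have hBN : ∀ h : H, (h : G) ∈ B → h ∈ Subgroup.normalizer ((U : Subgroup H) : Set H) := by
    intro h hh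
    rw [Subgroup.mem_normalizer_iff]
    intro x
    refine ⟨fun hx => hUeq _ (hs.normal h hh x (hU x hx)), fun hx => hUeq _ ?_⟩
    have := hs.normal _ (B.inv_mem hh) _ (hU _ hx)
    simpa [mul_assoc] using this
  have hmod := sylow_mod_card U fun x hx hx1 h hh => hBN h (hNB h x hx hx1 hh)
  set m := Nat.card (Sylow 5 H) with hm
  have hmpos : 0 < m := Nat.card_pos
  let N := Subgroup.normalizer ((U : Subgroup H) : Set H)
  have hmN : Nat.card N * m = Nat.card H := by
    rw [hm, U.card_eq_index_normalizer]; exact Subgroup.card_mul_index _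
  have hUcard : Nat.card (U : Subgroup H) = 5 ^ (Nat.card H).factorization 5 := U.card_eq_multiplicity
  -- `N` is in the Borel subgroup
  have hn' : H.index ∣ 126000 := Dvd.intro_left _ hcard
  have h5 : 5 ∣ Nat.card H := by
    have key : ∀ n : Fin 50, 25 ≤ (n : ℕ) → (n : ℕ) ∣ 126000 → 5 ∣ 126000 / (n : ℕ) := by decide +kernel
    rw [hHpos]
    exact key ⟨H.index, hlt⟩ h25 hn'
  have hU1 : (U : Subgroup H) ≠ ⊥ := by
    intro e
    have := hUcard
    rw [e, Subgroup.card_bot] at this
    have h0 : (Nat.card H).factorization 5 = 0 := by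
      rcases Nat.eq_zero_or_pos ((Nat.card H).factorization 5) with h | h
      · exact h
      · exact absurd this.symm (Nat.one_lt_pow h.ne' (by norm_num)).ne'
    rcases Nat.factorization_eq_zero_iff _ _ |>.mp h0 with h | h | h
    · exact h (by norm_num)
    · exact h h5
    · exact Nat.card_pos.ne' h
  obtain ⟨x0, hx0, hx01⟩ : ∃ x : H, x ∈ (U : Subgroup H) ∧ x ≠ 1 := by
    by_contra hh
    push Not at hh
    exact hU1 (eq_bot_iff.mpr fun x hx => Subgroup.mem_bot.mpr (hh x hx))
  have hNle : N.map H.subtype ≤ B := by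
    rintro _ ⟨h, hh, rfl⟩
    exact hNB h x0 hx0 hx01 ((Subgroup.mem_normalizer_iff''.mp hh x0).mp hx0)
  have hNd : Nat.card N ∣ 1000 := by
    refine dvd_trans ?_ hs.cardB
    rw [← Subgroup.card_map_of_injective (K := N) H.subtype_injective]
    exact Subgroup.card_dvd_of_le hNle
  have hsmall : (H.index = 25 ∧ Nat.card N = 40 ∧ Nat.card (U : Subgroup H) = 5) ∨
      (H.index = 40 ∧ Nat.card N = 25 ∧ Nat.card (U : Subgroup H) = 25) := by
    have hUd : Nat.card (U : Subgroup H) ∣ Nat.card N :=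
      Subgroup.card_dvd_of_le Subgroup.le_normalizer
    obtain ⟨e, he⟩ : ∃ e, (Nat.card H).factorization 5 = e := ⟨_, rfl⟩
    have hed : 5 ^ e ∣ Nat.card H := he ▸ Nat.ordProj_dvd _ 5
    have hend : ¬ 5 ^ (e + 1) ∣ Nat.card H := by
      rw [← he]; exact Nat.pow_succ_factorization_not_dvd Nat.card_pos.ne' (by norm_num)
    rw [hUcard, he] at hUd hmod ⊢
    rw [hHpos] at hed hend hmN
    generalize Nat.card N = a at hNd hmN hUd ⊢
    generalize hnn : H.index = n at hn' h25 hlt hed hend hmN ⊢
    have ha0 : 0 < a := Nat.pos_of_ne_zero fun h => by rw [h] at hNd; norm_num at hNd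
    have ha : a < 1001 := Nat.lt_succ_of_le (Nat.le_of_dvd (by norm_num) hNd)
    have hma : m = 126000 / n / a := by
      rw [← hmN, Nat.mul_div_cancel_left _ ha0]
    have he4 : e ≤ 3 := by
      by_contra h4
      have h625 : 625 ∣ 126000 :=
        dvd_trans (dvd_trans (pow_dvd_pow 5 (show 4 ≤ e by omega)) hed) (Nat.div_dvd_of_dvd hn')
      norm_num at h625
    exact arith ⟨n, hlt⟩ h25 hn' ⟨a, ha⟩ hNd ⟨e, by omega⟩ (by rw [← hma, mul_comm]; exact hmN)
      hed hend hUd (by rw [← hma]; exact hmod)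
  rcases hsmall with ⟨hn, hN, hUc⟩ | ⟨hn, hN, hUc⟩
  · -- index 25
    let V := (U : Subgroup H).map H.subtype
    have hVP : V ≤ P := by rintro _ ⟨x, hx, rfl⟩; exact hU x hx
    have hVc : Nat.card V = 5 := by
      rw [Subgroup.card_map_of_injective H.subtype_injective, hUc]
    rcases hs.torus V hVP hVc with hcen | htor
    · refine core_ne_bot hs (H := H) (z := (x0 : G)) (fun e => hx01 (Subtype.ext e)) x0.2
        (fun x hx => hcen _ ⟨x0, hx0, rfl⟩ x hx) ?_ ((H.normalCore_normal.eq_bot_or_eq_top).resolve_right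
        fun e => hH (top_le_iff.mp (e ▸ H.normalCore_le)))
      intro g
      have h2 : Nat.card ↥(H.subgroupOf P) = 5 := by
        rw [← Subgroup.card_map_of_injective (K := H.subgroupOf P) P.subtype_injective, Subgroup.subgroupOf_map_subtype, ← hVc]
        have hHP : H ⊓ P = V := by
          ext y
          simp only [V, Subgroup.mem_inf, Subgroup.mem_map]
          exact ⟨fun h => ⟨⟨y, h.1⟩, hUeq _ h.2, rfl⟩, fun ⟨x, hx, e⟩ => e ▸ ⟨x.2, hU x hx⟩⟩
        rw [hHP]
      have hst : MulAction.stabilizer P ((1 : G) : G ⧸ H) = H.subgroupOf P := by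
        ext x
        rw [MulAction.mem_stabilizer_iff, Subgroup.mem_subgroupOf]
        show (((x : G) * 1 : G) : G ⧸ H) = ((1 : G) : G ⧸ H) ↔ _
        rw [QuotientGroup.eq, mul_one, mul_one, inv_mem_iff]
      have horb : MulAction.orbit P ((1 : G) : G ⧸ H) = Set.univ := by
        refine Set.eq_of_subset_of_ncard_le (Set.subset_univ _) ?_
        have h3 := Subgroup.card_mul_index (H.subgroupOf P)
        rw [h2, hs.cardP, ← hst, MulAction.index_stabilizer] at h3
        rw [Set.ncard_univ, ← Subgroup.index_eq_card, hn]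
        omega
      obtain ⟨x, hx⟩ := horb ▸ Set.mem_univ ((g⁻¹ : G) : G ⧸ H)
      have hx' : (((x : G) * 1 : G) : G ⧸ H) = ((g⁻¹ : G) : G ⧸ H) := hx
      rw [QuotientGroup.eq, mul_one] at hx'
      exact ⟨(x : G)⁻¹, P.inv_mem x.2, ((x : G)⁻¹ * g⁻¹)⁻¹, H.inv_mem hx', by group⟩
    · refine htor (N.map H.subtype) hNle ?_
        (by rw [Subgroup.card_map_of_injective H.subtype_injective, hN])
      rintro _ ⟨h, hh, rfl⟩ _ ⟨x, hx, rfl⟩
      exact ⟨h * x * h⁻¹, (Subgroup.mem_normalizer_iff.mp hh x).mp hx, by simp⟩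
  · -- index 40
    have hHc : Nat.card H = 3150 := by rw [hHpos, hn]
    have hNU : N = (U : Subgroup H) := (Subgroup.eq_of_le_of_card_ge Subgroup.le_normalizer (by rw [hN, hUc])).symm
    haveI : IsMulCommutative (U : Subgroup H) :=
      IsPGroup.isMulCommutative_of_card_eq_prime_sq (p := 5) (by rw [hUc]; norm_num)
    have hP : N ≤ Subgroup.centralizer ((U : Subgroup H) : Set H) := by
      rw [hNU]; exact (U : Subgroup H).le_centralizer
    have hK := MonoidHom.ker_transferSylow_isComplement' U hP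
    set K := (MonoidHom.transferSylow U hP).ker with hKdef
    haveI : K.Normal := MonoidHom.normal_ker _
    have hKc : Nat.card K = 126 := by
      have := hK.card_mul
      rw [hUc, hHc] at this
      omega
    haveI : Fact (Nat.Prime 7) := ⟨by norm_num⟩
    obtain ⟨W⟩ : Nonempty (Sylow 7 K) := inferInstance
    have hWc : Nat.card (W : Subgroup K) = 7 := by
      rw [W.card_eq_multiplicity, hKc, show (126 : ℕ) = 7 ^ 1 * 18 by norm_num,
        Nat.factorization_mul (by norm_num) (by norm_num), Finsupp.add_apply,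
        Nat.Prime.factorization_pow (by norm_num), Finsupp.single_eq_same,
        Nat.factorization_eq_zero_of_not_dvd (by norm_num), add_zero, pow_one]
    have hone : Nat.card (Sylow 7 K) = 1 := by
      have h1 := card_sylow_modEq_one 7 K
      have h2 := W.card_dvd_index
      have h3 : (W : Subgroup K).index = 18 := by
        have := (W : Subgroup K).card_mul_index
        rw [hWc, hKc] at this; omega
      rw [h3] at h2
      have h4 : Nat.card (Sylow 7 K) ∈ Nat.divisors 18 := Nat.mem_divisors.mpr ⟨h2, by norm_num⟩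
      generalize Nat.card (Sylow 7 K) = t at h1 h4 ⊢
      revert h1 h4
      unfold Nat.ModEq
      revert t
      have : ∀ t ∈ Nat.divisors 18, t % 7 = 1 % 7 → t = 1 := by decide
      exact fun t h1 h4 => this t h4 h1
    haveI : Subsingleton (Sylow 7 K) := (Nat.card_eq_one_iff_unique.mp hone).1
    haveI : (W : Subgroup K).Characteristic := W.characteristic_of_subsingleton
    haveI : ((W : Subgroup K).map K.subtype).Normal := ConjAct.normal_of_characteristic_of_normal
    let W' := (W : Subgroup K).map K.subtype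
    have hW'c : Nat.card W' = 7 := by
      rw [Subgroup.card_map_of_injective (Subgroup.subtype_injective _), hWc]
    haveI : IsCyclic W' := isCyclic_of_prime_card (p := 7) hW'c
    let f : (U : Subgroup H) →* MulAut W' :=
      (MulAut.conjNormal : H →* MulAut W').comp (U : Subgroup H).subtype
    have hf : f ⟨x0, hx0⟩ = 1 := by
      have h1 : orderOf (f ⟨x0, hx0⟩) ∣ 25 := (orderOf_map_dvd f _).trans (hUc ▸ orderOf_dvd_natCard _)
      have h2 : orderOf (f ⟨x0, hx0⟩) ∣ 6 := by
        refine (orderOf_dvd_natCard _).trans ?_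
        rw [IsCyclic.card_mulAut, hW'c, Nat.totient_prime (by norm_num)]
      exact orderOf_eq_one_iff.mp (Nat.dvd_one.mp (by simpa using Nat.dvd_gcd h1 h2))
    obtain ⟨w, hw, hw1⟩ : ∃ w ∈ W', w ≠ (1 : H) := by
      by_contra hh
      push Not at hh
      have : W' = ⊥ := eq_bot_iff.mpr fun x hx => Subgroup.mem_bot.mpr (hh x hx)
      rw [this, Subgroup.card_bot] at hW'c
      omega
    have hcw : x0 * w * x0⁻¹ = w := by
      have := congrArg (fun a : MulAut W' => ((a ⟨w, hw⟩ : W') : H)) hf
      simpa [f, MulAut.conjNormal_apply] using this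
    have hwx : w⁻¹ * x0 * w = x0 := by
      have hcm' : x0 * w = w * x0 := mul_inv_eq_iff_eq_mul.mp hcw
      rw [mul_assoc, hcm', inv_mul_cancel_left]
    have hwN : w ∈ N := hBN w (hNB w x0 hx0 hx01 (by rw [hwx]; exact hx0))
    have h7 : orderOf w ∣ 7 := by
      rw [← hW'c, ← Subgroup.orderOf_mk w hw]
      exact orderOf_dvd_natCard _
    have h25' : orderOf w ∣ 25 := by
      rw [← hN, ← Subgroup.orderOf_mk w hwN]
      exact orderOf_dvd_natCard _
    exact hw1 (orderOf_eq_one_iff.mp (Nat.dvd_one.mp (by simpa using Nat.dvd_gcd h7 h25')))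

/-- The lower bound. -/
theorem bound (hs : Shape P B) [IsSimpleGroup G] {H : Subgroup G} (hH : H ≠ ⊤) : 50 ≤ H.index := by
  classical
  have hcore : H.normalCore = ⊥ := (H.normalCore_normal.eq_bot_or_eq_top).resolve_right
    fun e => hH (top_le_iff.mp (e ▸ H.normalCore_le))
  rcases Nat.lt_or_ge H.index 25 with hlt | h25
  · exfalso
    obtain ⟨z, hz, hz1, hzc⟩ := hs.centre
    refine hz1 (?_ : z = 1)
    have : z ∈ H.normalCore := fun g => by
      let H' := H.comap (MulAut.conj g).toMonoidHom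
      have hi : H'.index = H.index := H.index_comap_of_surjective (MulAut.conj g).surjective
      have h1 : H'.relIndex P ≤ H'.index := by
        rw [← Subgroup.relIndex_top_right H']
        exact Subgroup.relIndex_le_of_le_right le_top
          (by rw [Subgroup.relIndex_top_right]; exact Subgroup.index_ne_zero_of_finite)
      have h2 := Subgroup.card_mul_index (H'.subgroupOf P)
      rw [hs.cardP, show (H'.subgroupOf P).index = H'.relIndex P from rfl] at h2
      have h3 : 25 ≤ Nat.card ↥(H' ⊓ P) := by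
        have e : Nat.card ↥(H'.subgroupOf P) = Nat.card ↥(H' ⊓ P) := by
          rw [← Subgroup.card_map_of_injective (K := H'.subgroupOf P) P.subtype_injective, Subgroup.subgroupOf_map_subtype]
        rw [e] at h2
        have hr : H'.relIndex P < 25 := by omega
        have hd : Nat.card ↥(H' ⊓ P) ∣ 5 ^ 3 := by
          rw [show (5 : ℕ) ^ 3 = Nat.card P by rw [hs.cardP]; norm_num]
          exact Subgroup.card_dvd_of_le inf_le_right
        obtain ⟨k, hk, hk'⟩ := (Nat.dvd_prime_pow (by norm_num)).mp hd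
        rw [hk'] at h2 ⊢
        interval_cases k <;> norm_num at h2 ⊢ <;> omega
      exact (mem_of_large hs (W := H' ⊓ P) inf_le_right h3 hz hzc).1
    rwa [hcore, Subgroup.mem_bot] at this
  · -- conjugate a Sylow subgroup into `P`
    obtain ⟨S, hS⟩ : ∃ S : Sylow 5 G, (S : Subgroup G) = P := by
      refine ⟨Sylow.ofCard P ?_, rfl⟩
      rw [hs.cardP, hs.cardG, show (126000 : ℕ) = 5 ^ 3 * 1008 by norm_num,
        Nat.factorization_mul (by norm_num) (by norm_num), Finsupp.add_apply,
        Nat.Prime.factorization_pow (by norm_num), Finsupp.single_eq_same,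
        Nat.factorization_eq_zero_of_not_dvd (by norm_num)]
      rfl
    obtain ⟨U⟩ : Nonempty (Sylow 5 H) := inferInstance
    obtain ⟨S', hS'⟩ := (U.2.map H.subtype).exists_le_sylow
    obtain ⟨g, hg⟩ := MulAction.exists_smul_eq G S S'
    let e := (MulAut.conj g).toMonoidHom
    let H' := H.comap e
    have hi : H'.index = H.index := H.index_comap_of_surjective (MulAut.conj g).surjective
    have hH' : H' ≠ ⊤ := fun h => by
      rw [← Subgroup.index_eq_one, hi, Subgroup.index_eq_one] at h
      exact hH h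
    rw [← hi] at h25 ⊢
    let E : H' ≃* H :=
      { toFun := fun x => ⟨e x.1, x.2⟩
        invFun := fun y => ⟨g⁻¹ * y.1 * g, by
          show g * (g⁻¹ * y.1 * g) * g⁻¹ ∈ H
          rw [show g * (g⁻¹ * y.1 * g) * g⁻¹ = y.1 by group]; exact y.2⟩
        left_inv := fun x => Subtype.ext (by show g⁻¹ * (g * x.1 * g⁻¹) * g = x.1; group)
        right_inv := fun y => Subtype.ext (by show g * (g⁻¹ * y.1 * g) * g⁻¹ = y.1; group)
        map_mul' := fun x y => Subtype.ext (by
          show e (x.1 * y.1) = e x.1 * e y.1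
          exact map_mul e _ _) }
    refine bound_aux hs hH' h25 (U.comapOfInjective E.toMonoidHom E.injective
      (by rw [MonoidHom.range_eq_top.mpr E.surjective]; exact le_top)) fun x hx => ?_
    have h1 : e x.1 ∈ (S' : Subgroup G) := hS' ⟨E x, hx, rfl⟩
    rw [← hg, Sylow.coe_subgroup_smul, Subgroup.mem_pointwise_smul_iff_inv_smul_mem, hS] at h1
    have h2 : (MulAut.conj g)⁻¹ • e x.1 = x.1 := by
      show (MulAut.conj g).symm (MulAut.conj g x.1) = x.1
      exact MulEquiv.symm_apply_apply _ _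
    rwa [h2] at h1

end CfsgLib.U35
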