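/-
The least index of a proper subgroup of `PSU₃(5)` is fifty.
-/
import Cfsg.Agent.Lib.Fusion.PSUSplit
import Cfsg.Agent.Lib.U35.Borel
import Cfsg.Agent.Lib.U35.Code
import Cfsg.Agent.Lib.U35.Lower
import Cfsg.Agent.S0280
import Cfsg.Agent.S0283

set_option autoImplicit false
set_option linter.unusedSectionVars false
set_option maxRecDepth 100000

namespace CfsgLib.U35

open Matrix CfsgLib.PSUBorel
open scoped Pointwise

theorem rel_twelve : mmul gu (mpow gt 12) ≠ mmul (mpow gt 12) gu := by decide +kernel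

theorem code_norm : ∀ a b : Fin 5, 5 ∣ (a : ℕ) * a + 3 * ((b : ℕ) * b) → (a : ℕ) = 0 ∧ (b : ℕ) = 0 := by
  decide +kernel

theorem code_sub : ∀ x y : Fin 25, cadd x (cneg y) = 0 → (x : ℕ) = y := by decide +kernel

theorem cadd_lt (x y : ℕ) : cadd x y < 25 := by unfold cadd; omega

theorem mdot_lt (A B : List ℕ) (i j : ℕ) : mdot A B i j < 25 := cadd_lt _ _

variable {F : Type*} [Field F] [Fintype F] [CharP F 5] (r : F)

local instance fact5'' : Fact (Nat.Prime 5) := ⟨by norm_num⟩

theorem five_zero : (5 : F) = 0 := by exact_mod_cast CharP.cast_eq_zero F 5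

theorem cast_mod (n : ℕ) : ((n % 5 : ℕ) : F) = (n : F) := (CharP.cast_eq_mod F 5 n).symm

/-- The value of a code. -/
def val (x : ℕ) : F := ((x / 5 : ℕ) : F) + ((x % 5 : ℕ) : F) * r

theorem val_pack (a b : ℕ) : val r (5 * (a % 5) + b % 5) = (a : F) + (b : F) * r := by
  unfold val
  rw [show (5 * (a % 5) + b % 5) / 5 = a % 5 by omega, show (5 * (a % 5) + b % 5) % 5 = b % 5 by omega, cast_mod,
    cast_mod]

theorem val_cadd (x y : ℕ) : val r (cadd x y) = val r x + val r y := by
  rw [cadd, val_pack]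
  unfold val
  push_cast
  ring

variable (hr : r ^ 2 = 2)
include hr

theorem val_cmul (x y : ℕ) : val r (cmul x y) = val r x * val r y := by
  rw [cmul, val_pack]
  unfold val
  push_cast
  linear_combination -(((x % 5 : ℕ) : F) * ((y % 5 : ℕ) : F)) * hr

theorem val_cneg (x : ℕ) : val r (cneg x) = -val r x := by
  rw [cneg, val_cmul r hr, show val r 20 = -1 from ?_, neg_one_mul]
  unfold val
  norm_num
  linear_combination five_zero (F := F)

theorem pow_r : r ^ 5 = 4 * r := by linear_combination (r ^ 3 + 2 * r) * hr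

theorem val_cconj (x : ℕ) : val r (cconj x) = val r x ^ 5 := by
  have hσ : ∀ n : ℕ, (n : F) ^ 5 = n := fun n => by
    have := map_natCast (frobenius F 5) n
    rwa [frobenius_def] at this
  rw [cconj, val_pack]
  unfold val
  rw [add_pow_char, mul_pow, hσ, hσ, pow_r r hr]
  push_cast
  ring

omit hr in
theorem val_zero : val r 0 = 0 := by simp [val]

omit hr in
theorem val_five : val r 5 = 1 := by simp [val]

theorem eq_zero_of_val {x : ℕ} (hx : x < 25) (h : val r x = 0) : x = 0 := by
  have h1 : ((x / 5 : ℕ) : F) * (x / 5 : ℕ) + 3 * (((x % 5 : ℕ) : F) * (x % 5 : ℕ)) = 0 := by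
    unfold val at h
    linear_combination (((x / 5 : ℕ) : F) - ((x % 5 : ℕ) : F) * r) * h + ((x % 5 : ℕ) : F) ^ 2 * hr +
      ((x % 5 : ℕ) : F) ^ 2 * five_zero (F := F)
  have h2 : 5 ∣ (x / 5) * (x / 5) + 3 * ((x % 5) * (x % 5)) := by
    rw [← CharP.cast_eq_zero_iff F 5]
    exact_mod_cast h1
  obtain ⟨ha, hb⟩ := code_norm ⟨x / 5, by omega⟩ ⟨x % 5, by omega⟩ h2
  simp only at ha hb
  omega

theorem val_inj {x y : ℕ} (hx : x < 25) (hy : y < 25) (h : val r x = val r y) : x = y :=
  code_sub ⟨x, hx⟩ ⟨y, hy⟩ (eq_zero_of_val r hr (cadd_lt _ _)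
    (by rw [val_cadd, val_cneg r hr, h, add_neg_cancel]))

/-! ### Matrices -/

omit hr in
/-- The matrix of a list of codes. -/
def mat (A : List ℕ) : Matrix (Fin 3) (Fin 3) F := Matrix.of fun i j => val r (ent A i j)

omit hr in
theorem ent_mmul (A B : List ℕ) (i j : Fin 3) : ent (mmul A B) i j = mdot A B i j := by
  fin_cases i <;> fin_cases j <;> rfl

theorem mat_mmul (A B : List ℕ) : mat r (mmul A B) = mat r A * mat r B := by
  ext i j
  rw [Matrix.mul_apply, Fin.sum_univ_three]
  simp only [mat, Matrix.of_apply, ent_mmul, mdot, val_cadd, val_cmul r hr]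
  rfl

omit hr in
theorem mat_mone : mat r mone = 1 := by
  ext i j
  fin_cases i <;> fin_cases j <;> simp [mat, ent, mone, val_zero, val_five]

theorem mat_mpow (A : List ℕ) (n : ℕ) : mat r (mpow A n) = mat r A ^ n := by
  induction n with
  | zero => rw [pow_zero]; exact mat_mone r
  | succ n ih => rw [pow_succ, mpow, mat_mmul r hr, ih]

omit hr in
theorem mat_mJ : mat r mJ = aJ F 3 := by
  ext i j
  fin_cases i <;> fin_cases j <;> simp [mat, ent, mJ, val_zero, val_five, aJ, Fin.rev]

omit hr in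
theorem mat_msmul (z : ℕ) : mat r (msmul z) = val r z • (1 : Matrix (Fin 3) (Fin 3) F) := by
  ext i j
  fin_cases i <;> fin_cases j <;> simp [mat, ent, msmul, val_zero]

theorem mmul_inj {A B C D : List ℕ} (h : mat r (mmul A B) = mat r (mmul C D)) : mmul A B = mmul C D := by
  have e : ∀ i j : Fin 3, mdot A B i j = mdot C D i j := fun i j => by
    have := congrFun (congrFun h i) j
    simp only [mat, Matrix.of_apply, ent_mmul] at this
    exact val_inj r hr (mdot_lt _ _ _ _) (mdot_lt _ _ _ _) this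
  have e00 : mdot A B 0 0 = mdot C D 0 0 := e 0 0
  have e01 : mdot A B 0 1 = mdot C D 0 1 := e 0 1
  have e02 : mdot A B 0 2 = mdot C D 0 2 := e 0 2
  have e10 : mdot A B 1 0 = mdot C D 1 0 := e 1 0
  have e11 : mdot A B 1 1 = mdot C D 1 1 := e 1 1
  have e12 : mdot A B 1 2 = mdot C D 1 2 := e 1 2
  have e20 : mdot A B 2 0 = mdot C D 2 0 := e 2 0
  have e21 : mdot A B 2 1 = mdot C D 2 1 := e 2 1
  have e22 : mdot A B 2 2 = mdot C D 2 2 := e 2 2
  simp only [mmul, e00, e01, e02, e10, e11, e12, e20, e21, e22]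

variable (c : Conj F) (hσ : ∀ x : F, c.σ x = x ^ 5)
include hσ

theorem mat_mstar (A : List ℕ) : mat r (mstar A) = ((mat r A).map c.σ)ᵀ := by
  ext i j
  rw [Matrix.transpose_apply, Matrix.map_apply, hσ]
  simp only [mat, Matrix.of_apply]
  rw [← val_cconj r hr]
  fin_cases i <;> fin_cases j <;> rfl

/-- The element of a checked list. -/
def elem (A : List ℕ) (h : unitaryB A = true) : SUs c 3 :=
  ⟨⟨mat r A, by
    simp only [unitaryB, Bool.and_eq_true, decide_eq_true_eq] at h
    have e := congrArg (val r) h.2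
    rw [val_five, mdet] at e
    simp only [val_cadd, val_cmul r hr, val_cneg r hr] at e
    rw [Matrix.det_fin_three]
    simp only [mat, Matrix.of_apply]
    refine Eq.trans ?_ e
    ring_nf
    rfl⟩, by
    show Cond c (mat r A)
    simp only [unitaryB, Bool.and_eq_true, decide_eq_true_eq] at h
    unfold Cond
    rw [← mat_mJ r, ← mat_mstar r hr c hσ, ← mat_mmul r hr, ← mat_mmul r hr, h.1]⟩

theorem elem_val (A : List ℕ) (h : unitaryB A = true) : (elem r hr c hσ A h).1.1 = mat r A := rfl

theorem elem_mul_eq {A B C D : List ℕ} (hA : unitaryB A = true) (hB : unitaryB B = true) (hC : unitaryB C = true)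
    (hD : unitaryB D = true) :
    elem r hr c hσ A hA * elem r hr c hσ B hB = elem r hr c hσ C hC * elem r hr c hσ D hD ↔
      mmul A B = mmul C D := by
  constructor
  · intro h
    refine mmul_inj r hr ?_
    rw [mat_mmul r hr, mat_mmul r hr]
    exact congrArg (fun g : SUs c 3 => g.1.1) h
  · intro h
    refine SUs_ext c ?_
    rw [coe_mul, coe_mul, elem_val, elem_val, elem_val, elem_val, ← mat_mmul r hr, ← mat_mmul r hr, h]

theorem coe_elem_pow (A : List ℕ) (hA : unitaryB A = true) (n : ℕ) :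
    ((elem r hr c hσ A hA) ^ n).1.1 = mat r (mpow A n) := by
  rw [mat_mpow r hr]
  induction n with
  | zero => rw [pow_zero, pow_zero, coe_one]
  | succ n ih => rw [pow_succ, pow_succ, coe_mul, ih, elem_val]

theorem elem_pow_eq_one {A : List ℕ} (hA : unitaryB A = true) {n : ℕ} (h : mpow A n = mone) :
    (elem r hr c hσ A hA) ^ n = 1 :=
  SUs_ext c (by rw [coe_elem_pow r hr c hσ, h, mat_mone, coe_one])

theorem not_commute {A B : List ℕ} (hA : unitaryB A = true) (hB : unitaryB B = true) (n : ℕ)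
    (h : mmul A (mpow B n) ≠ mmul (mpow B n) A) : (elem r hr c hσ B hB) ^ n ∉ Subgroup.center (SUs c 3) := by
  intro hcen
  have e := congrArg (fun g : SUs c 3 => g.1.1) (Subgroup.mem_center_iff.mp hcen (elem r hr c hσ A hA))
  simp only [coe_mul, coe_elem_pow r hr c hσ, elem_val] at e
  rw [← mat_mmul r hr, ← mat_mmul r hr] at e
  exact h (mmul_inj r hr e)

/-- The scalar generator of the centre. -/
def zeta : SUs c 3 := elem r hr c hσ (msmul omega) rel_omega.2.1

theorem zeta_val : (zeta r hr c hσ).1.1 = val r omega • (1 : Matrix (Fin 3) (Fin 3) F) := mat_msmul r omega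

theorem zeta_center : zeta r hr c hσ ∈ Subgroup.center (SUs c 3) :=
  Subgroup.mem_center_iff.mpr fun g => SUs_ext c (by
    rw [coe_mul, coe_mul, zeta_val, Matrix.mul_smul, Matrix.smul_mul, Matrix.mul_one, Matrix.one_mul])

theorem orderOf_zeta : orderOf (zeta r hr c hσ) = 3 := by
  refine orderOf_eq_prime ?_ fun h => ?_
  · refine SUs_ext c ?_
    rw [pow_succ, pow_succ, pow_one, mul_assoc, coe_mul, coe_mul, zeta, elem_val, ← mat_mmul r hr, ← mat_mmul r hr,
      rel_omega.1, mat_mone, coe_one]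
  · have e := congrArg (fun g : SUs c 3 => g.1.1 0 0) h
    simp only [zeta_val, coe_one, Matrix.smul_apply, Matrix.one_apply_eq, smul_eq_mul, mul_one] at e
    exact rel_omega.2.2.1 (val_inj r hr rel_omega.2.2.2.2.1 (by norm_num) (e.trans (val_five r).symm))

/-! ### Sets of lines -/

omit hσ

omit hr in
/-- The vector of a line. -/
def vec (i : ℕ) : Fin 3 → F := fun k => val r (coord (pt i) k)

omit hr in
/-- A union of lines, without the origin. -/
def lineSet (j : ℕ) : Set (Fin 3 → F) :=
  {w | ∃ i < 525, (mask j).testBit i = true ∧ ∃ μ : F, μ ≠ 0 ∧ w = μ • vec r i}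

theorem pt_inj {i i' : ℕ} (hi : i < 525) (hi' : i' < 525) (h : pt i = pt i') : i = i' := by
  have h1 : i < pts.length := by rw [pts_nodup.2]; exact hi
  have h2 : i' < pts.length := by rw [pts_nodup.2]; exact hi'
  refine (pts_nodup.1.getElem_inj_iff (hi := h1) (hj := h2)).mp ?_
  rwa [pt, pt, List.getD_eq_getElem _ _ h1, List.getD_eq_getElem _ _ h2] at h

theorem vec_inj {i i' : ℕ} (hi : i < 525) (hi' : i' < 525) {μ : F} (hμ : μ ≠ 0) (h : vec r i = μ • vec r i') :
    i = i' := by
  have n1 := List.all_eq_true.mp pts_norm i (List.mem_range.mpr hi)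
  have n2 := List.all_eq_true.mp pts_norm i' (List.mem_range.mpr hi')
  simp only [normB, Bool.and_eq_true, Bool.or_eq_true, decide_eq_true_eq] at n1 n2
  have e : ∀ k : Fin 3, val r (coord (pt i) k) = μ * val r (coord (pt i') k) := fun k => congrFun h k
  have e0 : val r (coord (pt i) 0) = μ * val r (coord (pt i') 0) := e 0
  have e1 : val r (coord (pt i) 1) = μ * val r (coord (pt i') 1) := e 1
  have e2 : val r (coord (pt i) 2) = μ * val r (coord (pt i') 2) := e 2
  have z : ∀ {x : ℕ}, x = 0 → val r x = 0 := fun hx => by rw [hx, val_zero]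
  have o : ∀ {x : ℕ}, x = 5 → val r x = 1 := fun hx => by rw [hx, val_five]
  have hμ1 : μ = 1 := by
    rcases n1.2 with a0 | ⟨a0, a1 | ⟨a1, a2⟩⟩ <;> rcases n2.2 with b0 | ⟨b0, b1 | ⟨b1, b2⟩⟩
    all_goals first
      | (rw [o a0, o b0, mul_one] at e0; exact e0.symm)
      | (rw [z a0, o b0, mul_one] at e0; exact absurd e0.symm hμ)
      | (rw [o a0, z b0, mul_zero] at e0; exact absurd e0 one_ne_zero)
      | (rw [o a1, o b1, mul_one] at e1; exact e1.symm)
      | (rw [z a1, o b1, mul_one] at e1; exact absurd e1.symm hμ)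
      | (rw [o a1, z b1, mul_zero] at e1; exact absurd e1 one_ne_zero)
      | (rw [o a2, o b2, mul_one] at e2; exact e2.symm)
  rw [hμ1, one_mul] at e0 e1 e2
  have lt : ∀ p, p / 625 < 25 → coord p 0 < 25 ∧ coord p 1 < 25 ∧ coord p 2 < 25 := fun p hp => by
    simp only [coord]; norm_num; omega
  have l1 := lt _ n1.1
  have l2 := lt _ n2.1
  have c0 := val_inj r hr l1.1 l2.1 e0
  have c1 := val_inj r hr l1.2.1 l2.2.1 e1
  have c2 := val_inj r hr l1.2.2 l2.2.2 e2
  refine pt_inj r hr hi hi' ?_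
  simp only [coord] at c0 c1 c2
  norm_num at c0 c1 c2
  omega

theorem lineSet_inj {j j' : ℕ} (hj : j < 50) (hj' : j' < 50) (h : lineSet r j = lineSet r j') : j = j' := by
  have hm : mask j = mask j' := by
    refine Nat.eq_of_testBit_eq fun i => ?_
    rcases Nat.lt_or_ge i 525 with hi | hi
    · have key : ∀ a b, lineSet r a = lineSet r b → (mask a).testBit i = true → (mask b).testBit i = true := by
        intro a b hab ha
        have : vec r i ∈ lineSet r b := hab ▸ ⟨i, hi, ha, 1, one_ne_zero, (one_smul _ _).symm⟩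
        obtain ⟨i', hi', hb, μ, hμ, e⟩ := this
        rwa [vec_inj r hr hi hi' hμ e]
      exact Bool.eq_iff_iff.mpr ⟨key _ _ h, key _ _ h.symm⟩
    · have hlt : ∀ a, a < 50 → mask a < 2 ^ i := fun a ha =>
        lt_of_lt_of_le (of_decide_eq_true (List.all_eq_true.mp masks_lt a (List.mem_range.mpr ha)))
          (Nat.pow_le_pow_right (by norm_num) hi)
      rw [Nat.testBit_lt_two_pow (hlt j hj), Nat.testBit_lt_two_pow (hlt j' hj')]
  have h1 : j < masks.length := by rw [masks_nodup.2]; exact hj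
  have h2 : j' < masks.length := by rw [masks_nodup.2]; exact hj'
  refine (masks_nodup.1.getElem_inj_iff (hi := h1) (hj := h2)).mp ?_
  rwa [mask, mask, List.getD_eq_getElem _ _ h1, List.getD_eq_getElem _ _ h2] at hm

include hσ

/-- The generators. -/
def gel (k : Fin 3) : SUs c 3 := elem r hr c hσ (gen k) (gens_unitary k)

theorem gel_vec (k : Fin 3) (i : ℕ) (hi : i < 525) :
    (gel r hr c hσ k).1.1 *ᵥ vec r i = val r ((lam k).getD i 0) • vec r ((perm k).getD i 0) := by
  have h := List.all_eq_true.mp (lines_ok k) i (List.mem_range.mpr hi)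
  simp only [lineB, Bool.and_eq_true, decide_eq_true_eq] at h
  funext a
  have ha := List.all_eq_true.mp h (a : ℕ) (List.mem_range.mpr a.2)
  simp only [Bool.and_eq_true, decide_eq_true_eq] at ha
  have e := congrArg (val r) ha.1.1.1
  rw [app] at e
  simp only [val_cadd, val_cmul r hr] at e
  simp only [gel, elem_val, Matrix.mulVec, dotProduct, Fin.sum_univ_three, Pi.smul_apply, smul_eq_mul, mat,
    Matrix.of_apply, vec]
  exact e

theorem line_facts (k : Fin 3) (i : ℕ) (hi : i < 525) :
    (perm k).getD i 0 < 525 ∧ val r ((lam k).getD i 0) ≠ 0 := by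
  have h := List.all_eq_true.mp (lines_ok k) i (List.mem_range.mpr hi)
  simp only [lineB] at h
  have ha := List.all_eq_true.mp h 0 (List.mem_range.mpr (by norm_num))
  simp only [Bool.and_eq_true, decide_eq_true_eq] at ha
  exact ⟨ha.1.1.2, fun e => ha.1.2 (eq_zero_of_val r hr ha.2 e)⟩

theorem perm_surj (k : Fin 3) {i' : ℕ} (hi' : i' < 525) : ∃ i < 525, (perm k).getD i 0 = i' := by
  let f : Fin 525 → Fin 525 := fun i => ⟨(perm k).getD i 0, (line_facts r hr c hσ k i i.2).1⟩
  have hf : Function.Injective f := fun a b e => by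
    have h1 : (a : ℕ) < (perm k).length := by rw [(perm_nodup k).2]; exact a.2
    have h2 : (b : ℕ) < (perm k).length := by rw [(perm_nodup k).2]; exact b.2
    have e' := congrArg Fin.val e
    simp only [f, List.getD_eq_getElem _ _ h1, List.getD_eq_getElem _ _ h2] at e'
    exact Fin.ext ((perm_nodup k).1.getElem_inj_iff.mp e')
  obtain ⟨i, hi⟩ := (Finite.injective_iff_surjective.mp hf) ⟨i', hi'⟩
  exact ⟨i, i.2, congrArg Fin.val hi⟩

omit hσ hr in
/-- The action on vectors. -/
def toPerm : SUs c 3 →* Equiv.Perm (Fin 3 → F) where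
  toFun g :=
    { toFun := fun v => g.1.1 *ᵥ v
      invFun := fun v => (g⁻¹).1.1 *ᵥ v
      left_inv := fun v => by simp only [Matrix.mulVec_mulVec, ← coe_mul, inv_mul_cancel, coe_one, Matrix.one_mulVec]
      right_inv := fun v => by simp only [Matrix.mulVec_mulVec, ← coe_mul, mul_inv_cancel, coe_one, Matrix.one_mulVec] }
  map_one' := Equiv.ext fun v => Matrix.one_mulVec v
  map_mul' g h := Equiv.ext fun v => (Matrix.mulVec_mulVec v g.1.1 h.1.1).symm

omit hσ hr in
/-- The type of sets of vectors, to carry the action of the unitary group. -/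
def Obj (F : Type*) : Type _ := Set (Fin 3 → F)

/-- A generator moves a set to the tabulated set. -/
theorem gel_lineSet (k : Fin 3) {j : ℕ} (hj : j < 50) :
    (fun v => (gel r hr c hσ k).1.1 *ᵥ v) '' lineSet r j = lineSet r ((act k).getD j 0) := by
  have h := List.all_eq_true.mp (sets_ok k) j (List.mem_range.mpr hj)
  simp only [setB, Bool.and_eq_true, decide_eq_true_eq] at h
  have hbit : ∀ i < 525, (mask ((act k).getD j 0)).testBit ((perm k).getD i 0) = (mask j).testBit i :=
    fun i hi => of_decide_eq_true (List.all_eq_true.mp h.2 i (List.mem_range.mpr hi))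
  ext w
  constructor
  · rintro ⟨_, ⟨i, hi, hb, μ, hμ, rfl⟩, rfl⟩
    obtain ⟨hp, hl⟩ := line_facts r hr c hσ k i hi
    refine ⟨_, hp, (hbit i hi).trans hb, μ * val r ((lam k).getD i 0), mul_ne_zero hμ hl, ?_⟩
    simp only [Matrix.mulVec_smul, gel_vec r hr c hσ k i hi, smul_smul]
  · rintro ⟨i', hi', hb, μ, hμ, rfl⟩
    obtain ⟨i, hi, rfl⟩ := perm_surj r hr c hσ k hi'
    have hl := (line_facts r hr c hσ k i hi).2
    refine ⟨(μ / val r ((lam k).getD i 0)) • vec r i, ⟨i, hi, (hbit i hi).symm.trans hb, _, div_ne_zero hμ hl, rfl⟩, ?_⟩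
    simp only [Matrix.mulVec_smul, gel_vec r hr c hσ k i hi, smul_smul, div_mul_cancel₀ μ hl]

theorem gu_mem : gel r hr c hσ 0 ∈ UU c 3 := by
  refine mem_UU_of_diag c (fun i j hij => ?_) fun i => ?_
  · show val r (ent gu i j) = 0
    rw [((shapes i j).1 hij).1, val_zero]
  · show val r (ent gu i i) = 1
    rw [((shapes i i).2 rfl).1, val_five]

/-- The conjugate unipotent generator. -/
def gvel : SUs c 3 := elem r hr c hσ gv gv_unitary

theorem gv_mem : gvel r hr c hσ ∈ UU c 3 := by
  refine mem_UU_of_diag c (fun i j hij => ?_) fun i => ?_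
  · show val r (ent gv i j) = 0
    rw [((shapes i j).1 hij).2, val_zero]
  · show val r (ent gv i i) = 1
    rw [((shapes i i).2 rfl).2, val_five]

theorem gv_eq : gel r hr c hσ 1 * gel r hr c hσ 0 * (gel r hr c hσ 1)⁻¹ = gvel r hr c hσ := by
  rw [mul_inv_eq_iff_eq_mul]
  exact (elem_mul_eq r hr c hσ (gens_unitary 1) (gens_unitary 0) gv_unitary (gens_unitary 1)).mpr rel_gv

theorem gu_gv : gel r hr c hσ 0 * gvel r hr c hσ ≠ gvel r hr c hσ * gel r hr c hσ 0 := fun h =>
  rel_comm ((elem_mul_eq r hr c hσ (gens_unitary 0) gv_unitary gv_unitary (gens_unitary 0)).mp h)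

variable {G : Type*} [Group G] [Finite G] (φ : SUs c 3 →* G) (hc : Cover c 5 φ) (hm : hc.m = 3)
  (hker : Nat.card φ.ker = 3) (hcen : Subgroup.center (SUs c 3) ≤ φ.ker)
include hm hker hcen

theorem shape (hG : Nat.card G = 126000) (h25 : Fintype.card F = 25) : Shape (PP c φ) (BB c φ) where
  cardG := hG
  cardP := card_PP c φ hc hG
  cardB := card_BB c φ hc hG h25 hker
  le := PP_le_BB c φ hc
  normal y hy x hx := conj_mem c φ hc hy hx
  ti x hx hx1 y hy := ti c φ hc hx hx1 hy
  centre := by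
    obtain ⟨b, hb0, hb⟩ := c.exists_antifixed
    set z := L2 c (0 : Fin 3) (by decide) b hb
    have hz : z ∈ UU c 3 := L2_mem_UU c (by decide) b hb
    refine ⟨φ z, ⟨z, hz, rfl⟩, fun e => hb0 ?_, ?_⟩
    · have := congrArg (fun A : SUs c 3 => A.1.1 0 2) (ker_inf_UU c φ hc hz e)
      simp only [z, L2_val, coe_one] at this
      simpa [Matrix.single_apply, Fin.rev] using this
    · rintro _ ⟨v, hv, rfl⟩
      rw [← map_mul, ← map_mul]
      congr 1
      refine SUs_ext c ?_
      simp only [z, coe_mul, L2_val]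
      ext i j
      fin_cases i <;> fin_cases j <;>
        simp [Matrix.mul_apply, Fin.sum_univ_three, Matrix.single_apply, Fin.rev, UU_diag c hv,
          UU_below c hv (show (0 : Fin 3) < 1 by decide), UU_below c hv (show (0 : Fin 3) < 2 by decide),
          UU_below c hv (show (1 : Fin 3) < 2 by decide)] <;> ring
  nonab := ⟨_, ⟨_, gu_mem r hr c hσ, rfl⟩, _, ⟨_, gv_mem r hr c hσ, rfl⟩, fun h =>
    gu_gv r hr c hσ (commute_UU c 5 hc (gu_mem r hr c hσ) (gv_mem r hr c hσ) h)⟩
  torus U hU hUc := by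
    classical
    haveI : IsCyclic U := isCyclic_of_prime_card (p := 5) hUc
    obtain ⟨⟨x, hxU⟩, hgen⟩ := IsCyclic.exists_monoid_generator (α := U)
    have hall : ∀ x' ∈ U, ∃ k : ℕ, x ^ k = x' := fun x' hx' => by
      obtain ⟨k, hk⟩ := hgen ⟨x', hx'⟩
      exact ⟨k, congrArg Subtype.val hk⟩
    obtain ⟨u, hu, rfl⟩ := hU hxU
    by_cases ha : u.1.1 0 1 = 0
    · left
      intro x' hx' y hy
      obtain ⟨k, rfl⟩ := hall x' hx'
      obtain ⟨v, hv, rfl⟩ := hy
      refine (Commute.pow_right ?_ k)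
      show φ v * φ u = φ u * φ v
      rw [← map_mul, ← map_mul]
      congr 1
      have h12 : u.1.1 1 2 = 0 := by
        have := UU_rel c hu
        rw [ha, add_zero] at this
        exact (map_eq_zero c.σ).mp this
      refine SUs_ext c ?_
      simp only [coe_mul]
      ext i j
      fin_cases i <;> fin_cases j <;>
        simp [Matrix.mul_apply, Fin.sum_univ_three, UU_diag c hu, UU_diag c hv, ha, h12,
          UU_below c hv (show (0 : Fin 3) < 1 by decide), UU_below c hv (show (0 : Fin 3) < 2 by decide),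
          UU_below c hv (show (1 : Fin 3) < 2 by decide), UU_below c hu (show (0 : Fin 3) < 1 by decide),
          UU_below c hu (show (0 : Fin 3) < 2 by decide), UU_below c hu (show (1 : Fin 3) < 2 by decide)] <;> ring
    · right
      intro N hNB hNU hN40
      let M := N.comap φ ⊓ Par c lev
      have hMc : Nat.card M = 120 := by
        let f : M →* N := (φ.comp M.subtype).codRestrict N fun g => g.2.1
        have hs : Function.Surjective f := fun y => by
          obtain ⟨g, hg, e⟩ := hNB y.2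
          refine ⟨⟨g, ⟨?_, hg⟩⟩, Subtype.ext e⟩
          show φ g ∈ N
          rw [e]; exact y.2
        have hk : Nat.card f.ker = 3 := by
          refine Eq.trans ?_ hker
          refine Nat.card_eq_of_bijective (fun z => (⟨z.1.1, congrArg Subtype.val z.2⟩ : φ.ker))
            ⟨fun a b e => Subtype.ext (Subtype.ext (congrArg (fun z : φ.ker => (z : SUs c 3)) e)), fun z => ?_⟩
          refine ⟨⟨⟨z.1, ⟨?_, ?_⟩⟩, Subtype.ext z.2⟩, rfl⟩
          · show φ z.1 ∈ N
            rw [MonoidHom.mem_ker.mp z.2]; exact one_mem _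
          · refine mem_Par_of_conj c hu (fun e => ha (by rw [e, coe_one]; rfl)) ?_
            rw [mul_assoc, Subgroup.mem_center_iff.mp (hc.central z.2), ← mul_assoc, inv_mul_cancel, one_mul]
            exact hu
        have := Subgroup.card_mul_index f.ker
        rw [Subgroup.index_ker, f.range_eq_top_of_surjective hs, Subgroup.card_top, hk, hN40] at this
        exact this.symm
      let χ : M →* Fˣ := (corner c).comp (Subgroup.inclusion inf_le_right)
      have hrange : Nat.card χ.range ≤ 12 := by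
        refine le_trans (Subgroup.card_le_of_le (K := rootsOfUnity 12 F) ?_) (card_rootsOfUnity F 12)
        rintro _ ⟨⟨g, hgN, hgP⟩, rfl⟩
        rw [mem_rootsOfUnity]
        ext
        rw [Units.val_pow_eq_pow_val, Units.val_one]
        show (g.1.1 0 0) ^ 12 = 1
        obtain ⟨k, hk⟩ := hall _ (hNU _ hgN _ hxU)
        have hmem : g * u * g⁻¹ ∈ UU c 3 := Rad_conj c hgP hu
        have hgu : u ^ k = g * u * g⁻¹ := by
          obtain ⟨n, hn⟩ := isPGroup_UU c 5 ⟨u ^ k, pow_mem hu k⟩
          exact eq_of_map c 5 hc hmem (congrArg Subtype.val hn)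
            (by rw [map_pow, hk, map_mul, map_mul, map_inv])
        exact torus c φ hc hσ hu ha hgP (k := k) (by rw [hgu, inv_mul_cancel_right])
      have hkerle : Nat.card χ.ker ≤ 5 := by
        have hmem : ∀ g : χ.ker, g.1.1 ∈ UU c 3 := fun g =>
          mem_UU_of_corner c g.1.2.2 (congrArg Units.val g.2)
        let f : χ.ker → ↥(N ⊓ PP c φ) := fun g => ⟨φ g.1.1, g.1.2.1, ⟨g.1.1, hmem g, rfl⟩⟩
        have hf : Function.Injective f := fun a b e => by
          refine Subtype.ext (Subtype.ext (inv_mul_eq_one.mp (ker_inf_UU c φ hc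
            (mul_mem (inv_mem (hmem a)) (hmem b)) ?_)))
          rw [map_mul, map_inv, show φ a.1.1 = φ b.1.1 from congrArg Subtype.val e, inv_mul_cancel]
        refine le_trans (Nat.card_le_card_of_injective f hf) ?_
        have h1 : Nat.card ↥(N ⊓ PP c φ) ∣ 40 := hN40 ▸ Subgroup.card_dvd_of_le inf_le_left
        have h2 : Nat.card ↥(N ⊓ PP c φ) ∣ 125 := card_PP c φ hc hG ▸ Subgroup.card_dvd_of_le inf_le_right
        exact Nat.le_of_dvd (by norm_num) (by simpa using Nat.dvd_gcd h1 h2)
      have := Subgroup.card_mul_index χ.ker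
      rw [Subgroup.index_ker, hMc] at this
      have h60 : Nat.card χ.ker * Nat.card χ.range ≤ 5 * 12 := Nat.mul_le_mul hkerle hrange
      omega

/-- The generators generate. -/
theorem top_of_mem (hG : Nat.card G = 126000) (h25 : Fintype.card F = 25) [IsSimpleGroup G]
    (L : Subgroup (SUs c 3)) (hz : zeta r hr c hσ ∈ L) (hg : ∀ k, gel r hr c hσ k ∈ L) : L = ⊤ := by
  classical
  have hs := shape r hr c hσ φ hc hm hker hcen hG h25
  have hLk : φ.ker ≤ L := by
    have hzk : zeta r hr c hσ ∈ φ.ker := hcen (zeta_center r hr c hσ)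
    have : Subgroup.zpowers (zeta r hr c hσ) = φ.ker :=
      Subgroup.eq_of_le_of_card_ge ((Subgroup.zpowers_le).mpr hzk)
        (by rw [Nat.card_zpowers, orderOf_zeta r hr c hσ, hker])
    rw [← this]
    exact (Subgroup.zpowers_le).mpr hz
  set K := L.map φ with hK
  suffices K = ⊤ by
    rw [← Subgroup.comap_map_eq_self hLk, ← hK, this, Subgroup.comap_top]
  by_contra hne
  have hb := bound hs hne
  have m0 : φ (gel r hr c hσ 0) ∈ K := ⟨_, hg 0, rfl⟩
  have mv : φ (gvel r hr c hσ) ∈ K :=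
    ⟨_, by rw [← gv_eq r hr c hσ]; exact mul_mem (mul_mem (hg 1) (hg 0)) (inv_mem (hg 1)), rfl⟩
  have d125 : 125 ∣ Nat.card K := by
    have hd : Nat.card ↥(K ⊓ PP c φ) ∣ 5 ^ 3 := by
      have := Subgroup.card_dvd_of_le (inf_le_right : K ⊓ PP c φ ≤ PP c φ)
      rw [hs.cardP] at this
      exact this
    obtain ⟨k, hk3, hk⟩ := (Nat.dvd_prime_pow (by norm_num)).mp hd
    have hk' : k = 3 := by
      by_contra hk'
      have hcomm : IsMulCommutative ↥(K ⊓ PP c φ) := by
        interval_cases k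
        · haveI : Subsingleton ↥(K ⊓ PP c φ) := (Nat.card_eq_one_iff_unique.mp (by simpa using hk)).1
          exact ⟨⟨fun a b => Subsingleton.elim _ _⟩⟩
        · haveI := isCyclic_of_prime_card (p := 5) (α := ↥(K ⊓ PP c φ)) (by simpa using hk)
          exact IsCyclic.isMulCommutative
        · exact IsPGroup.isMulCommutative_of_card_eq_prime_sq (p := 5) hk
        · exact absurd rfl hk'
      refine gu_gv r hr c hσ (commute_UU c 5 hc (gu_mem r hr c hσ) (gv_mem r hr c hσ) ?_)
      exact congrArg Subtype.val (hcomm.is_comm.comm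
        (⟨_, m0, _, gu_mem r hr c hσ, rfl⟩ : ↥(K ⊓ PP c φ)) ⟨_, mv, _, gv_mem r hr c hσ, rfl⟩)
    have := Subgroup.card_dvd_of_le (inf_le_left : K ⊓ PP c φ ≤ K)
    rw [hk, hk'] at this
    exact this
  have dord : ∀ k, orderOf (φ (gel r hr c hσ k)) ∣ Nat.card K := fun k => by
    have hmem : φ (gel r hr c hσ k) ∈ K := ⟨_, hg k, rfl⟩
    rw [← Subgroup.orderOf_mk _ hmem]
    exact orderOf_dvd_natCard _
  have d7 : orderOf (φ (gel r hr c hσ 2)) = 7 := by
    haveI : Fact (Nat.Prime 7) := ⟨by norm_num⟩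
    refine orderOf_eq_prime (by
      rw [← map_pow]; exact (congrArg φ (elem_pow_eq_one r hr c hσ (gens_unitary 2) rel_orders.1)).trans (map_one φ)) ?_
    intro e
    refine not_commute r hr c hσ (gens_unitary 0) (gens_unitary 2) 1 ?_ (by rw [pow_one]; exact hc.central e)
    show mmul gu (mpow gs 1) ≠ mmul (mpow gs 1) gu
    rw [show mpow gs 1 = gs by decide +kernel]
    exact fun h => rel_orders.2.2.2.1 h.symm
  have d8 : 8 ∣ orderOf (φ (gel r hr c hσ 1)) := by
    have h24 : orderOf (φ (gel r hr c hσ 1)) ∣ 24 :=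
      orderOf_dvd_of_pow_eq_one (by
      rw [← map_pow]; exact (congrArg φ (elem_pow_eq_one r hr c hσ (gens_unitary 1) rel_orders.2.1)).trans (map_one φ))
    have h12 : ¬ orderOf (φ (gel r hr c hσ 1)) ∣ 12 := fun h => by
      refine not_commute r hr c hσ (gens_unitary 0) (gens_unitary 1) 12 rel_twelve (hc.central ?_)
      show φ (gel r hr c hσ 1 ^ 12) = 1
      rw [map_pow]
      exact orderOf_dvd_iff_pow_eq_one.mp h
    revert h12
    have key : ∀ n : Fin 25, (n : ℕ) ∣ 24 → ¬ (n : ℕ) ∣ 12 → 8 ∣ (n : ℕ) := by decide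
    exact key ⟨_, Nat.lt_succ_of_le (Nat.le_of_dvd (by norm_num) h24)⟩ h24
  have h7000 : 7000 ∣ Nat.card K := by
    have h1 : 125 * 8 ∣ Nat.card K :=
      Nat.Coprime.mul_dvd_of_dvd_of_dvd (by norm_num) d125 (d8.trans (dord 1))
    exact Nat.Coprime.mul_dvd_of_dvd_of_dvd (m := 1000) (n := 7) (by norm_num) h1 (d7 ▸ dord 2)
  have := K.card_mul_index
  rw [hG] at this
  have hle := Nat.le_of_dvd Nat.card_pos h7000
  nlinarith

theorem exists_index (hG : Nat.card G = 126000) (h25 : Fintype.card F = 25) [IsSimpleGroup G] :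
    ∃ H : Subgroup G, H.index = 50 := by
  classical
  letI : MulAction (SUs c 3) (Obj F) :=
    @MulAction.compHom (Equiv.Perm (Fin 3 → F)) (SUs c 3) (Set (Fin 3 → F)) _ Set.mulActionSet _ (toPerm c)
  let S : ℕ → Obj F := lineSet r
  have hsmul : ∀ (g : SUs c 3) (j : ℕ), g • S j = (fun v => g.1.1 *ᵥ v) '' lineSet r j := fun g j => rfl
  have hzfix : ∀ j, zeta r hr c hσ • S j = S j := by
    intro j
    have hz0 : val r omega ≠ 0 := fun e => rel_omega.2.2.2.1 (eq_zero_of_val r hr rel_omega.2.2.2.2.1 e)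
    rw [hsmul]
    show _ = lineSet r j
    ext w
    constructor
    · rintro ⟨_, ⟨i, hi, hb, μ, hμ, rfl⟩, rfl⟩
      exact ⟨i, hi, hb, val r omega * μ, mul_ne_zero hz0 hμ, by
        simp only [zeta_val, Matrix.smul_mulVec, Matrix.one_mulVec, smul_smul]⟩
    · rintro ⟨i, hi, hb, μ, hμ, rfl⟩
      refine ⟨(μ / val r omega) • vec r i, ⟨i, hi, hb, _, div_ne_zero hμ hz0, rfl⟩, ?_⟩
      simp only [zeta_val, Matrix.smul_mulVec, Matrix.one_mulVec, smul_smul, mul_div_cancel₀ μ hz0]
  let L : Subgroup (SUs c 3) :=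
    PSpBorel.ofClosed {g | ∀ j < 50, ∃ j' < 50, g • S j = S j'}
      (fun j hj => ⟨j, hj, one_smul _ _⟩)
      (fun a ha b hb j hj => by
        obtain ⟨j₁, h₁, e₁⟩ := hb j hj
        obtain ⟨j₂, h₂, e₂⟩ := ha j₁ h₁
        exact ⟨j₂, h₂, (mul_smul a b (S j)).trans ((congrArg (a • ·) e₁).trans e₂)⟩)
  have hL : L = ⊤ := top_of_mem r hr c hσ φ hc hm hker hcen hG h25 L (fun j hj => ⟨j, hj, hzfix j⟩) fun k j hj => by
    refine ⟨_, ?_, (hsmul _ _).trans (gel_lineSet r hr c hσ k hj)⟩
    have h := List.all_eq_true.mp (sets_ok k) j (List.mem_range.mpr hj)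
    simp only [setB, Bool.and_eq_true, decide_eq_true_eq] at h
    exact h.1
  have horb : MulAction.orbit (SUs c 3) (S 0) = Set.range fun j : Fin 50 => S j := by
    refine Set.ext fun T => ?_
    constructor
    · rintro ⟨g, rfl⟩
      obtain ⟨j', hj', e⟩ := (hL.ge (Subgroup.mem_top g) : g ∈ L) 0 (by norm_num)
      exact ⟨⟨j', hj'⟩, e.symm⟩
    · rintro ⟨⟨j, hj⟩, rfl⟩
      show S j ∈ _
      induction j using Nat.strong_induction_on with
      | _ j ih =>
        rcases Nat.eq_zero_or_pos j with rfl | hpos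
        · exact MulAction.mem_orbit_self _
        · obtain ⟨j, rfl⟩ : ∃ i, j = i + 1 := ⟨j - 1, by omega⟩
          have h := List.all_eq_true.mp pred_ok j (List.mem_range.mpr (by omega))
          simp only [Bool.and_eq_true, decide_eq_true_eq] at h
          obtain ⟨⟨-, h2⟩, h3⟩ := h
          obtain ⟨g, hg⟩ := ih _ h2 (by omega)
          refine ⟨gel r hr c hσ (Fin.ofNat 3 (pred.getD (j + 1) (0, 0)).1) * g, ?_⟩
          have e := gel_lineSet r hr c hσ (Fin.ofNat 3 (pred.getD (j + 1) (0, 0)).1) (j := (pred.getD (j + 1) (0, 0)).2)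
            (by omega)
          rw [show (act (Fin.ofNat 3 (pred.getD (j + 1) (0, 0)).1)).getD (pred.getD (j + 1) (0, 0)).2 0 = j + 1
            from h3] at e
          refine (mul_smul _ g (S 0)).trans ((congrArg (_ • ·) hg).trans ?_)
          exact (hsmul _ _).trans e
  have hidx : (MulAction.stabilizer (SUs c 3) (S 0)).index = 50 := by
    rw [MulAction.index_stabilizer, horb, Set.ncard_range_of_injective, Nat.card_fin]
    exact fun a b e => Fin.ext (lineSet_inj r hr a.2 b.2 e)
  refine ⟨(MulAction.stabilizer (SUs c 3) (S 0)).map φ, ?_⟩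
  rw [Subgroup.index_map_eq _ hc.surj, hidx]
  have : Subgroup.zpowers (zeta r hr c hσ) = φ.ker :=
    Subgroup.eq_of_le_of_card_ge ((Subgroup.zpowers_le).mpr (hcen (zeta_center r hr c hσ)))
      (by rw [Nat.card_zpowers, orderOf_zeta r hr c hσ, hker])
  rw [← this]
  exact (Subgroup.zpowers_le).mpr (hzfix 0)

omit hσ hr hm hker hcen

theorem main (hF : Fintype.card F = 25) :
    (∀ H : Subgroup (Cfsg.PSU 3 F 5), H ≠ ⊤ → 50 ≤ H.index) ∧ ∃ H : Subgroup (Cfsg.PSU 3 F 5), H.index = 50 := by
  classical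
  obtain ⟨r, hr⟩ : ∃ r : F, r ^ 2 = 2 := by
    have h2 : (2 : F) ≠ 0 := fun h => by
      have := (CharP.cast_eq_zero_iff F 5 2).mp (by exact_mod_cast h)
      norm_num at this
    have hsq : IsSquare (2 : F) := by
      rw [FiniteField.isSquare_iff (by rw [ringChar.eq F 5]; norm_num) h2, hF]
      norm_num
      linear_combination 819 * five_zero (F := F)
    obtain ⟨r, hr⟩ := hsq
    exact ⟨r, by rw [sq, ← hr]⟩
  let c : Conj F := ⟨5, frobenius F 5, by rw [hF]; norm_num, fun x => frobenius_def 5 x⟩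
  have hσ : ∀ x : F, c.σ x = x ^ 5 := fun x => frobenius_def 5 x
  have hc5 : Fintype.card F = 5 ^ 2 := by rw [hF]; norm_num
  obtain ⟨E⟩ := exists_iso c (n := 3)
  let φ : SUs c 3 →* Cfsg.PSU 3 F 5 :=
    (QuotientGroup.mk' (Subgroup.center (Cfsg.SU 3 F 5))).comp E.toMonoidHom
  have hcc : Nat.card (Subgroup.center (Cfsg.SU 3 F 5)) = 3 := by
    rw [Cfsg.Agent.S0280.center_card hc5 3 (by norm_num)]; norm_num
  have hke : ∀ z, z ∈ φ.ker ↔ E z ∈ Subgroup.center (Cfsg.SU 3 F 5) := fun z => QuotientGroup.eq_one_iff (E z)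
  have hcen : Subgroup.center (SUs c 3) ≤ φ.ker := fun z hz => (hke z).mpr (Subgroup.mem_center_iff.mpr fun x => by
    obtain ⟨y, rfl⟩ := E.surjective x
    exact (map_mul E y z).symm.trans ((congrArg E (Subgroup.mem_center_iff.mp hz y)).trans (map_mul E z y)))
  let hc : Cover c 5 φ :=
    { surj := (QuotientGroup.mk'_surjective _).comp E.surjective
      central := fun z hz => Subgroup.mem_center_iff.mpr fun x => E.injective (by
        rw [map_mul, map_mul]; exact Subgroup.mem_center_iff.mp ((hke z).mp hz) (E x))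
      m := 3
      cop := by norm_num
      pow_m := fun z hz => E.injective (by
        rw [map_pow, map_one]
        have e := congrArg Subtype.val
          (pow_card_eq_one' (x := (⟨E z, (hke z).mp hz⟩ : Subgroup.center (Cfsg.SU 3 F 5))))
        rw [hcc] at e
        exact e) }
  have hker : Nat.card φ.ker = 3 := by
    refine Eq.trans ?_ hcc
    refine Nat.card_eq_of_bijective
      (fun z => (⟨E z.1, (hke z.1).mp z.2⟩ : Subgroup.center (Cfsg.SU 3 F 5)))
      ⟨fun a b e => Subtype.ext (E.injective (congrArg Subtype.val e)), fun w => ?_⟩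
    exact ⟨⟨E.symm w.1, (hke _).mpr ((E.apply_symm_apply w.1).symm ▸ w.2)⟩, Subtype.ext (E.apply_symm_apply w.1)⟩
  haveI : IsSimpleGroup (Cfsg.PSU 3 F 5) := Cfsg.Agent.S0283.result hc5 3 le_rfl (by norm_num)
  have hG : Nat.card (Cfsg.PSU 3 F 5) = 126000 := by
    have h := Cfsg.Agent.S0280.result hc5 3 (by norm_num)
    rw [Finset.prod_range_succ, Finset.prod_range_succ, Finset.prod_range_succ, Finset.prod_range_zero] at h
    norm_num [Nat.even_iff] at h ⊢
    first | omega | (rw [Nat.card_eq_fintype_card]; omega)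
  exact ⟨fun H hH => bound (shape r hr c hσ φ hc rfl hker hcen hG hF) hH,
    exists_index r hr c hσ φ hc rfl hker hcen hG hF⟩

end CfsgLib.U35
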